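import Cfsg.Agent.Lib.Spor.Fi22.U6.Field

/-!
# The affine special linear group of the plane over the field with four elements
-/

set_option autoImplicit false
set_option linter.unusedSectionVars false

namespace CfsgLib.Char.Epp.Affine

open CfsgLib.Spor.Fi22.U6

/-- The plane. -/
abbrev Pl := Four × Four

/-- The matrices of determinant one with last row `0 0 1`. -/
def Aff : Subgroup (Matrix.SpecialLinearGroup (Fin 3) Four) where
  carrier := {M | (M : Matrix (Fin 3) (Fin 3) Four) 2 0 = 0 ∧ (M : Matrix (Fin 3) (Fin 3) Four) 2 1 = 0 ∧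
    (M : Matrix (Fin 3) (Fin 3) Four) 2 2 = 1}
  mul_mem' := fun {M M'} h h' => by
    obtain ⟨h0, h1, h2⟩ := h
    obtain ⟨h0', h1', h2'⟩ := h'
    refine ⟨?_, ?_, ?_⟩ <;>
      simp [Matrix.SpecialLinearGroup.coe_mul, Matrix.mul_apply, Fin.sum_univ_three, h0, h1, h2, h0', h1', h2']
  one_mem' := by simp
  inv_mem' := fun {M} h => by
    obtain ⟨h0, h1, h2⟩ := h
    have hd := M.2
    rw [Matrix.det_fin_three] at hd
    simp only [h0, h1, h2, mul_zero, mul_one, sub_zero, add_zero] at hd
    refine ⟨?_, ?_, ?_⟩ <;>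
      simp [Matrix.SpecialLinearGroup.coe_inv, Matrix.adjugate_fin_three, h0, h1, hd]

/-- The affine action. -/
def act (M : Matrix (Fin 3) (Fin 3) Four) (x : Pl) : Pl :=
  (M 0 0 * x.1 + M 0 1 * x.2 + M 0 2, M 1 0 * x.1 + M 1 1 * x.2 + M 1 2)

theorem act_one (x : Pl) : act 1 x = x := by
  simp [act]

theorem act_mul (M M' : Aff) (x : Pl) :
    act ((M * M' : Aff) : Matrix.SpecialLinearGroup (Fin 3) Four).1 x =
      act (M : Matrix.SpecialLinearGroup (Fin 3) Four).1 (act (M' : Matrix.SpecialLinearGroup (Fin 3) Four).1 x) := by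
  obtain ⟨h0, h1, h2⟩ := M'.2
  simp only [act, Subgroup.coe_mul, Matrix.SpecialLinearGroup.coe_mul, Matrix.mul_apply, Fin.sum_univ_three, h0, h1,
    h2]
  refine Prod.ext ?_ ?_ <;> ring

instance : MulAction Aff Pl where
  smul M x := act (M : Matrix.SpecialLinearGroup (Fin 3) Four).1 x
  one_smul x := by
    show act _ x = x
    rw [Subgroup.coe_one, Matrix.SpecialLinearGroup.coe_one, act_one]
  mul_smul := act_mul

theorem smul_def (M : Aff) (x : Pl) : M • x = act (M : Matrix.SpecialLinearGroup (Fin 3) Four).1 x := rfl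

theorem toPermHom_injective : Function.Injective (MulAction.toPermHom Aff Pl) := by
  intro M M' e
  have e' : ∀ x : Pl, M • x = M' • x := fun x => congrFun (congrArg DFunLike.coe e) x
  obtain ⟨h0, h1, h2⟩ := M.2
  obtain ⟨h0', h1', h2'⟩ := M'.2
  have a := e' (0, 0)
  have b := e' (1, 0)
  have c := e' (0, 1)
  simp only [smul_def, act, mul_zero, zero_add, mul_one, add_zero, Prod.mk.injEq] at a b c
  refine Subtype.ext (Matrix.SpecialLinearGroup.ext _ _ fun i j => ?_)
  fin_cases i <;> fin_cases j <;> first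
    | exact a.1
    | exact a.2
    | exact add_right_cancel (b.1.trans (congrArg (_ + ·) a.1.symm))
    | exact add_right_cancel (b.2.trans (congrArg (_ + ·) a.2.symm))
    | exact add_right_cancel (c.1.trans (congrArg (_ + ·) a.1.symm))
    | exact add_right_cancel (c.2.trans (congrArg (_ + ·) a.2.symm))
    | exact h0.trans h0'.symm
    | exact h1.trans h1'.symm
    | exact h2.trans h2'.symm

theorem card_det_one :
    Fintype.card {p : (Four × Four) × (Four × Four) // p.1.1 * p.2.2 - p.1.2 * p.2.1 = 1} = 60 := by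
  decide +kernel

theorem card_aff_le : Nat.card Aff ≤ 960 := by
  have h := Nat.card_le_card_of_injective (β := {p : (Four × Four) × (Four × Four) //
      p.1.1 * p.2.2 - p.1.2 * p.2.1 = 1} × Pl)
    (fun M : Aff => (⟨(((M : Matrix.SpecialLinearGroup (Fin 3) Four).1 0 0,
        (M : Matrix.SpecialLinearGroup (Fin 3) Four).1 0 1),
      ((M : Matrix.SpecialLinearGroup (Fin 3) Four).1 1 0, (M : Matrix.SpecialLinearGroup (Fin 3) Four).1 1 1)), by
        obtain ⟨h0, h1, h2⟩ := M.2
        have hd := (M : Matrix.SpecialLinearGroup (Fin 3) Four).2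
        rw [Matrix.det_fin_three] at hd
        simp only [h0, h1, h2, mul_zero, mul_one, sub_zero, add_zero] at hd
        exact hd⟩,
      ((M : Matrix.SpecialLinearGroup (Fin 3) Four).1 0 2, (M : Matrix.SpecialLinearGroup (Fin 3) Four).1 1 2)))
    (fun M M' e => by
      obtain ⟨h0, h1, h2⟩ := M.2
      obtain ⟨h0', h1', h2'⟩ := M'.2
      simp only [Prod.mk.injEq, Subtype.mk.injEq] at e
      refine Subtype.ext (Matrix.SpecialLinearGroup.ext _ _ fun i j => ?_)
      fin_cases i <;> fin_cases j <;> first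
        | exact e.1.1.1
        | exact e.1.1.2
        | exact e.1.2.1
        | exact e.1.2.2
        | exact e.2.1
        | exact e.2.2
        | exact h0.trans h0'.symm
        | exact h1.trans h1'.symm
        | exact h2.trans h2'.symm)
  have e1 := card_det_one
  rw [← Nat.card_eq_fintype_card] at e1
  rw [Nat.card_prod, e1] at h
  simpa [Pl, Four.card_four] using h

/-- The transvection. -/
def mT : Aff :=
  ⟨⟨!![1, Four.u, 0; 0, 1, 0; 0, 0, 1], by simp [Matrix.det_fin_three]⟩, ⟨rfl, rfl, rfl⟩⟩

/-- The element of order three. -/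
def mB : Aff :=
  ⟨⟨!![0, 1, 0; 1, 1, 0; 0, 0, 1], by decide +kernel⟩, ⟨rfl, rfl, rfl⟩⟩

/-- The translations. -/
def mTr (a : Pl) : Aff :=
  ⟨⟨!![1, 0, a.1; 0, 1, a.2; 0, 0, 1], by simp [Matrix.det_fin_three]⟩, by
    refine ⟨?_, ?_, ?_⟩ <;> simp⟩

/-- The linear part of the transvection. -/
def fT (x : Pl) : Pl := (x.1 + Four.u * x.2, x.2)

/-- The linear map of order three. -/
def fB (x : Pl) : Pl := (x.2, x.1 + x.2)

theorem mT_smul : ∀ x, mT • x = fT x := by decide +kernel
theorem mB_smul : ∀ x, mB • x = fB x := by decide +kernel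
theorem mTr_smul : ∀ a x, mTr a • x = a + x := by decide +kernel

/-- Reaching the first basis vector. -/
def reach : ℕ → Pl → Bool
  | 0, x => x == (1, 0)
  | k + 1, x => reach k x || reach k (fT x) || reach k (fB x)

theorem reach_all : ∀ x : Pl, x ≠ 0 → reach 8 x = true := by decide +kernel

/-- A subset avoiding the first basis vector and stable under the generators is zero. -/
theorem eq_zero_of_stable {K : Pl → Prop} (hK : ∀ x, K x → K (fT x) ∧ K (fB x)) (h1 : ¬ K (1, 0)) {x : Pl}
    (hx : K x) : x = 0 := by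
  by_contra hne
  have key : ∀ k x, K x → reach k x = false := by
    intro k
    induction k with
    | zero =>
      intro x hx
      simp only [reach, beq_eq_false_iff_ne]
      exact fun e => h1 (e ▸ hx)
    | succ k ih =>
      intro x hx
      simp only [reach, ih x hx, ih _ (hK x hx).1, ih _ (hK x hx).2, Bool.or_self]
  exact absurd (reach_all x hne) (by rw [key 8 x hx]; simp)

end CfsgLib.Char.Epp.Affine
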