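import Mathlib.Data.Nat.ModEq
import Mathlib.Tactic

/-!
# The exponential equation coming from the two Sylow congruences
-/

set_option autoImplicit false

namespace CfsgLib.Char.Epp

/-- The possible indices of a Sylow five subgroup in its normalizer. -/
def fiveIdx : List ℕ := [1, 2, 3, 4, 8]

set_option synthInstance.maxSize 2000 in
theorem small_cases : ∀ e ∈ fiveIdx, ∀ a < 9, ∀ c < 5, 3 ≤ a → 1 ≤ c → ∀ k < 81,
    (2 ^ a * 5 ^ c) % 9 = 8 → 9 * 2 ^ a = e * (1 + k * 5 ^ c) → 2 ^ a ≤ 9 * 5 ^ c → a = 4 ∧ c = 1 := by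
  decide +kernel

set_option synthInstance.maxSize 2000 in
theorem residue_cases : ∀ e ∈ fiveIdx, ∀ k < 81, e * k < 81 → ∀ c < 48, (1 + k * 5 ^ c) % 64 = 0 →
    e * (1 + k * 5 ^ c) % 9 = 0 → ∀ a < 12, (2 ^ a * 5 ^ c) % 9 = 8 → 9 * 2 ^ a % 5 = e % 5 →
    9 * 2 ^ a % 13 ≠ e * (1 + k * 5 ^ c) % 13 := by
  decide +kernel

theorem pow_mod_period {x P M : ℕ} (h : x ^ P % M = 1 % M) (n : ℕ) : x ^ n ≡ x ^ (n % P) [MOD M] := by
  have h1 : x ^ (P * (n / P)) ≡ 1 [MOD M] := by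
    rw [pow_mul, ← one_pow (n / P)]
    exact Nat.ModEq.pow _ h
  calc x ^ n = x ^ (P * (n / P)) * x ^ (n % P) := by rw [← pow_add, Nat.div_add_mod]
    _ ≡ 1 * x ^ (n % P) [MOD M] := h1.mul_right _
    _ = x ^ (n % P) := one_mul _

/-- The only solution is `2 ^ 4 * 9 * 5`. -/
theorem solve {a c e k : ℕ} (ha : 3 ≤ a) (hc : 1 ≤ c) (he : e ∈ fiveIdx) (hA : 2 ^ (a - 3) * 5 ^ c % 9 = 1)
    (hB : 9 * 2 ^ a = e * (1 + k * 5 ^ c)) (hC : 2 ^ a ≤ 9 * 5 ^ c) : a = 4 ∧ c = 1 := by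
  have he0 : 1 ≤ e ∧ e ≤ 8 ∧ (e = 1 ∨ e = 2 ∨ e = 3 ∨ e = 4 ∨ e = 8) := by
    simp only [fiveIdx, List.mem_cons, List.not_mem_nil, or_false] at he
    omega
  have hA' : 2 ^ a * 5 ^ c % 9 = 8 := by
    rw [show a = a - 3 + 3 by omega, pow_add, mul_right_comm, Nat.mul_mod, hA]
    norm_num
  have hek : e * k < 81 := by
    have h1 : e * k * 5 ^ c < e * (1 + k * 5 ^ c) := by
      rw [mul_add, mul_one, mul_assoc]; omega
    have h2 : e * k * 5 ^ c < 81 * 5 ^ c := by omega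
    exact Nat.lt_of_mul_lt_mul_right h2
  have hk : k < 81 := lt_of_le_of_lt (Nat.le_mul_of_pos_left k he0.1) hek
  by_cases ha9 : a < 9
  · refine small_cases e he a ha9 c ?_ ha hc k hk hA' hB hC
    by_contra hc5
    have h5 := Nat.pow_le_pow_right (show 0 < 5 by norm_num) (not_lt.1 hc5)
    have h2 := Nat.pow_le_pow_right (show 0 < 2 by norm_num) (show a ≤ 8 by omega)
    rcases Nat.eq_zero_or_pos k with rfl | hk0
    · rw [zero_mul, add_zero, mul_one] at hB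
      have := Nat.pow_le_pow_right (show 0 < 2 by norm_num) ha
      omega
    · have h3 : 5 ^ c ≤ e * (1 + k * 5 ^ c) :=
        le_trans (le_trans (Nat.le_mul_of_pos_left _ hk0) (Nat.le_add_left _ 1)) (Nat.le_mul_of_pos_left _ he0.1)
      norm_num at h5 h2
      omega
  exfalso
  have h512 : 512 ∣ e * (1 + k * 5 ^ c) := by
    rw [← hB]
    exact Dvd.dvd.mul_left ((pow_dvd_pow 2 (not_lt.1 ha9) : 2 ^ 9 ∣ 2 ^ a)) 9
  have hX64 : (1 + k * 5 ^ c) % 64 = 0 := by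
    generalize 1 + k * 5 ^ c = X at h512
    rcases he0.2.2 with rfl | rfl | rfl | rfl | rfl <;> omega
  have hX9 : e * (1 + k * 5 ^ c) % 9 = 0 := by rw [← hB, Nat.mul_mod_right]
  have hX13 : 9 * 2 ^ a % 13 = e * (1 + k * 5 ^ c) % 13 := by rw [hB]
  have hX5 : 9 * 2 ^ a % 5 = e % 5 := by
    rw [hB, mul_add, mul_one, ← mul_assoc, Nat.add_mod,
      Nat.mod_eq_zero_of_dvd (Dvd.dvd.mul_left (dvd_pow_self 5 (by omega)) _), add_zero, Nat.mod_mod]
  have c64 := pow_mod_period (show 5 ^ 48 % 64 = 1 % 64 by norm_num) c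
  have c9 := pow_mod_period (show 5 ^ 48 % 9 = 1 % 9 by norm_num) c
  have c13 := pow_mod_period (show 5 ^ 48 % 13 = 1 % 13 by norm_num) c
  have a9 := pow_mod_period (show 2 ^ 12 % 9 = 1 % 9 by norm_num) a
  have a5 := pow_mod_period (show 2 ^ 12 % 5 = 1 % 5 by norm_num) a
  have a13 := pow_mod_period (show 2 ^ 12 % 13 = 1 % 13 by norm_num) a
  refine residue_cases e he k hk hek (c % 48) (Nat.mod_lt _ (by norm_num)) ?_ ?_ (a % 12) (Nat.mod_lt _ (by norm_num))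
    ?_ ?_ ?_
  · exact Eq.trans ((c64.mul_left k).add_left 1).symm hX64
  · exact Eq.trans (((c9.mul_left k).add_left 1).mul_left e).symm hX9
  · exact Eq.trans (a9.mul c9).symm hA'
  · exact Eq.trans (a5.mul_left 9).symm hX5
  · exact Eq.trans (Eq.trans (a13.mul_left 9).symm hX13) (((c13.mul_left k).add_left 1).mul_left e)

end CfsgLib.Char.Epp
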