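import Cfsg.Agent.Lib.Char.Epp.SylowTI
import Cfsg.Agent.Lib.Perm.Dickson.Icosa

/-!
# Groups whose element orders are at most five: a complement to the elementary abelian two-group
-/

set_option autoImplicit false
set_option linter.unusedSectionVars false

namespace CfsgLib.Char.Epp

universe u

/-- The double transposition. -/
def tau : alternatingGroup (Fin 5) := ⟨Equiv.swap 0 1 * Equiv.swap 2 3, Equiv.Perm.mem_alternatingGroup.2 (by decide +kernel)⟩
/-- The three-cycle. -/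
def beta : alternatingGroup (Fin 5) := ⟨Equiv.swap 0 2 * Equiv.swap 2 4, Equiv.Perm.mem_alternatingGroup.2 (by decide +kernel)⟩
/-- A five-cycle inverted by the double transposition. -/
def rho : alternatingGroup (Fin 5) :=
  ⟨Equiv.swap 0 2 * Equiv.swap 2 4 * Equiv.swap 4 3 * Equiv.swap 3 1, Equiv.Perm.mem_alternatingGroup.2 (by decide +kernel)⟩

theorem five_facts : beta ^ 3 = 1 ∧ beta ≠ 1 ∧ rho ^ 5 = 1 ∧ rho ≠ 1 ∧ tau * rho * tau⁻¹ = rho⁻¹ ∧
    tau * tau = 1 ∧ (beta⁻¹ * tau) ^ 5 = 1 ∧ beta⁻¹ * tau ≠ 1 := by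
  decide +kernel

theorem alt_five_no_four (a : alternatingGroup (Fin 5)) : orderOf a ≠ 4 := by
  intro ho
  have key : ∀ a : alternatingGroup (Fin 5), a ^ 4 = 1 → a * a = 1 := by decide +kernel
  have e := orderOf_dvd_of_pow_eq_one (show a ^ 2 = 1 by rw [pow_two]; exact key a (ho ▸ pow_orderOf_eq_one a))
  rw [ho] at e
  norm_num at e

variable {G : Type u} [Group G] [Finite G]

theorem Small5.orderOf_lift (h : Small5 G) {A : Type*} [Group A] (π : G →* A) {g : G} {p : ℕ} [Fact p.Prime]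
    (hp : p = 3 ∨ p = 5) {a : A} (ha : a ^ p = 1) (ha1 : a ≠ 1) (hg : π g = a) : orderOf g = p := by
  have hd := orderOf_map_dvd π g
  rw [hg, orderOf_eq_prime ha ha1] at hd
  have h5 := h g
  obtain ⟨m, hm⟩ := hd
  have := orderOf_pos g
  rcases m with _ | _ | m
  · omega
  · rw [hm]; ring
  · rw [hm] at h5
    have : p * 2 ≤ p * (m + 1 + 1) := Nat.mul_le_mul_left p (by omega)
    rcases hp with rfl | rfl <;> omega

theorem Small5.fpf_two (h : Small5 G) {p : ℕ} (hp : p = 3 ∨ p = 5) {x w : G} (hx : orderOf x = p)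
    (hw : w * w = 1) (hc : x * w = w * x) : w = 1 := by
  rcases h.comm_order hp hx hc with e | e
  · exact orderOf_eq_one_iff.1 e
  · have := orderOf_dvd_of_pow_eq_one (show w ^ 2 = 1 by rw [pow_two, hw])
    rw [e] at this
    have := Nat.le_of_dvd two_pos this
    rcases hp with rfl | rfl <;> omega

/-- A complement. -/
theorem Small5.exists_complement (h : Small5 G) (π : G →* alternatingGroup (Fin 5)) (hπ : Function.Surjective π)
    (h2 : ∀ n ∈ π.ker, n * n = 1) :
    ∃ ψ : alternatingGroup (Fin 5) →* G, (∀ a, π (ψ a) = a) ∧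
      ∀ S : Subgroup G, ψ tau ∈ S → ψ beta ∈ S → ∀ a, ψ a ∈ S := by
  haveI : Fact (Nat.Prime 3) := ⟨Nat.prime_three⟩
  haveI : Fact (Nat.Prime 5) := ⟨by norm_num⟩
  obtain ⟨hb3, hb1, hr5, hr1, htr, htt, hB5, hB1⟩ := five_facts
  obtain ⟨b, hb⟩ := hπ beta
  obtain ⟨y, hy⟩ := hπ rho
  obtain ⟨g, hg⟩ := hπ tau
  have oy := h.orderOf_lift π (Or.inr rfl) hr5 hr1 hy
  have hm : g * y * g⁻¹ * y ∈ π.ker := by
    rw [MonoidHom.mem_ker, map_mul, map_mul, map_mul, map_inv, hg, hy, htr, inv_mul_cancel]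
  have hkn : π.ker.Normal := MonoidHom.normal_ker π
  have hcomm : ∀ n ∈ π.ker, ∀ n' ∈ π.ker, n * n' = n' * n := fun n hn n' hn' => by
    have e := h2 _ (π.ker.mul_mem hn hn')
    calc n * n' = n * (n * n' * (n * n')) * n' := by rw [e, mul_one]
      _ = (n * n) * n' * n * (n' * n') := by group
      _ = n' * n := by rw [h2 n hn, h2 n' hn', one_mul, mul_one]
  let K : π.ker → π.ker := fun n => ⟨(n : G)⁻¹ * (y⁻¹ * n * y), π.ker.mul_mem (π.ker.inv_mem n.2) (by
    have := hkn.conj_mem _ n.2 y⁻¹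
    rwa [inv_inv] at this)⟩
  have hK : Function.Surjective K := by
    refine Finite.injective_iff_surjective.1 fun a c e => ?_
    have e' : (a : G)⁻¹ * (y⁻¹ * a * y) = (c : G)⁻¹ * (y⁻¹ * c * y) := congrArg Subtype.val e
    have hfix : y⁻¹ * ((a : G) * (c : G)⁻¹) * y = (a : G) * (c : G)⁻¹ := by
      calc y⁻¹ * ((a : G) * (c : G)⁻¹) * y = (a : G) * ((a : G)⁻¹ * (y⁻¹ * a * y)) * ((y⁻¹ * c * y)⁻¹) := by group
        _ = _ := by rw [e']; group
    have h1 := h.fpf_two (Or.inr rfl) oy (h2 _ (π.ker.mul_mem a.2 (π.ker.inv_mem c.2))) (by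
      nth_rewrite 1 [← hfix]; group)
    exact Subtype.ext (mul_inv_eq_one.1 h1)
  obtain ⟨n, hn⟩ := hK ⟨_, hm⟩
  have hn' : (n : G)⁻¹ * (y⁻¹ * n * y) = g * y * g⁻¹ * y := congrArg Subtype.val hn
  set t := (n : G) * g with ht
  have hty : t * y * t⁻¹ = y⁻¹ := by
    calc t * y * t⁻¹ = (n : G) * (g * y * g⁻¹ * y) * y⁻¹ * (n : G)⁻¹ := by rw [ht]; group
      _ = y⁻¹ := by rw [← hn']; group
  have hπt : π t = tau := by rw [ht, map_mul, MonoidHom.mem_ker.1 n.2, hg, one_mul]
  have ht2 : t * t = 1 := by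
    have hker : t * t ∈ π.ker := by rw [MonoidHom.mem_ker, map_mul, hπt, htt]
    refine h.fpf_two (Or.inr rfl) oy (h2 _ hker) ?_
    calc y * (t * t) = (t * y⁻¹ * t⁻¹) * (t * t) := by rw [← conj_inv, hty, inv_inv]
      _ = t * (t * y * t⁻¹) * t := by rw [hty]; group
      _ = t * t * y := by group
  have ob := h.orderOf_lift π (Or.inl rfl) hb3 hb1 hb
  have hπB : π (b⁻¹ * t) = beta⁻¹ * tau := by rw [map_mul, map_inv, hb, hπt]
  have oB := h.orderOf_lift π (Or.inr rfl) hB5 hB1 hπB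
  have hbne : b ≠ 1 := fun e => hb1 (by rw [← hb, e, map_one])
  obtain ⟨eL⟩ := CfsgLib.Perm.Dickson.a5_of_relations b (b⁻¹ * t) (by rw [← ob, pow_orderOf_eq_one])
    (by rw [← oB, pow_orderOf_eq_one]) (by rw [mul_inv_cancel_left, pow_two, ht2]) hbne
  set L := Subgroup.closure ({b, b⁻¹ * t} : Set G) with hL
  have hbL : b ∈ L := Subgroup.subset_closure (Or.inl rfl)
  have hBL : b⁻¹ * t ∈ L := Subgroup.subset_closure (Or.inr rfl)
  haveI : IsSimpleGroup L := by
    haveI := alternatingGroup.isSimpleGroup_five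
    haveI : Nontrivial L := eL.toEquiv.nontrivial
    exact IsSimpleGroup.isSimpleGroup_of_surjective eL.symm.toMonoidHom eL.symm.surjective
  let πL : L →* alternatingGroup (Fin 5) := π.comp L.subtype
  have hinj : Function.Injective πL := by
    rw [← MonoidHom.ker_eq_bot_iff]
    refine (IsSimpleGroup.eq_bot_or_eq_top_of_normal πL.ker inferInstance).resolve_right fun e => hb1 ?_
    have hmem : (⟨b, hbL⟩ : L) ∈ πL.ker := e ▸ Subgroup.mem_top _
    rw [← hb]
    exact MonoidHom.mem_ker.1 hmem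
  have hbij : Function.Bijective πL :=
    (Nat.bijective_iff_injective_and_card _).2 ⟨hinj, Nat.card_congr eL.toEquiv⟩
  let eπ := MulEquiv.ofBijective πL hbij
  refine ⟨L.subtype.comp eπ.symm.toMonoidHom, fun a => eπ.apply_symm_apply a, fun S hS1 hS2 a => ?_⟩
  have key : ∀ x : L, ((eπ.symm (π (x : G)) : L) : G) = x := fun x =>
    congrArg Subtype.val (eπ.symm_apply_apply x)
  have hbS : b ∈ S := by
    have e1 := key ⟨b, hbL⟩
    simp only [hb] at e1
    rw [← e1]; exact hS2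
  have htS : t ∈ S := by
    have e1 := key ⟨t, by simpa using L.mul_mem hbL hBL⟩
    simp only [hπt] at e1
    rw [← e1]; exact hS1
  exact (Subgroup.closure_le S).2 (by
    rintro x (rfl | rfl)
    · exact hbS
    · exact S.mul_mem (S.inv_mem hbS) htS) (eπ.symm a).2

end CfsgLib.Char.Epp
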