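import Cfsg.Agent.Lib.Char.Epp.SylowTI
import Cfsg.Agent.Lib.Char.Epp.Arith
import Cfsg.Agent.Lib.Char.Orthogonality
import Cfsg.Agent.Lib.Invol.InvertedOdd

/-!
# Groups whose element orders are at most five: the order when the Sylow three automizer has order eight
-/

set_option autoImplicit false
set_option linter.unusedSectionVars false

namespace CfsgLib.Char.Epp

open CfsgLib.Coprime

universe u

variable {G : Type u} [Group G] [Finite G]

/-- The order is the product of the orders of Sylow subgroups for two, three and five. -/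
theorem Small5.card_eq (h : Small5 G) (A : Sylow 2 G) (B : Sylow 3 G) (C : Sylow 5 G) :
    Nat.card G = Nat.card (A : Subgroup G) * Nat.card (B : Subgroup G) * Nat.card (C : Subgroup G) := by
  haveI : Fact (Nat.Prime 2) := ⟨Nat.prime_two⟩
  haveI : Fact (Nat.Prime 3) := ⟨Nat.prime_three⟩
  haveI : Fact (Nat.Prime 5) := ⟨by norm_num⟩
  obtain ⟨i, hi⟩ := IsPGroup.iff_card.1 A.2
  obtain ⟨j, hj⟩ := IsPGroup.iff_card.1 B.2
  obtain ⟨l, hl⟩ := IsPGroup.iff_card.1 C.2
  have hd : 2 ^ i * 3 ^ j * 5 ^ l ∣ Nat.card G := by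
    refine Nat.Coprime.mul_dvd_of_dvd_of_dvd ?_ (Nat.Coprime.mul_dvd_of_dvd_of_dvd ?_ ?_ ?_) ?_
    · exact Nat.Coprime.mul_left (Nat.Coprime.pow _ _ (by norm_num)) (Nat.Coprime.pow _ _ (by norm_num))
    · exact Nat.Coprime.pow _ _ (by norm_num)
    · rw [← hi]; exact Subgroup.card_subgroup_dvd_card _
    · rw [← hj]; exact Subgroup.card_subgroup_dvd_card _
    · rw [← hl]; exact Subgroup.card_subgroup_dvd_card _
  obtain ⟨m, hm⟩ := hd
  rw [hi, hj, hl, hm]
  suffices m = 1 by rw [this, mul_one]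
  by_contra hm1
  obtain ⟨r, hr, hrm⟩ := Nat.exists_prime_and_dvd hm1
  rcases h.prime_dvd hr (hm ▸ Dvd.dvd.mul_left hrm _) with rfl | rfl | rfl
  · refine A.not_dvd_index ?_
    have e := (A : Subgroup G).card_mul_index
    rw [hi, hm, mul_assoc (2 ^ i), mul_assoc (2 ^ i)] at e
    rw [Nat.eq_of_mul_eq_mul_left (pow_pos (by norm_num) i) e]
    exact Dvd.dvd.mul_left hrm _
  · refine B.not_dvd_index ?_
    have e := (B : Subgroup G).card_mul_index
    rw [hj, hm, show 2 ^ i * 3 ^ j * 5 ^ l * m = 3 ^ j * (2 ^ i * 5 ^ l * m) by ring] at e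
    rw [Nat.eq_of_mul_eq_mul_left (pow_pos (by norm_num) j) e]
    exact Dvd.dvd.mul_left hrm _
  · refine C.not_dvd_index ?_
    have e := (C : Subgroup G).card_mul_index
    rw [hl, hm, show 2 ^ i * 3 ^ j * 5 ^ l * m = 5 ^ l * (2 ^ i * 3 ^ j * m) by ring] at e
    rw [Nat.eq_of_mul_eq_mul_left (pow_pos (by norm_num) l) e]
    exact Dvd.dvd.mul_left hrm _

theorem card_normalizer_eq (P : Subgroup G) :
    Nat.card (Subgroup.normalizer (P : Set G)) =
      (P.subgroupOf (Subgroup.normalizer (P : Set G))).index * Nat.card P := by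
  rw [← Nat.card_congr (Subgroup.subgroupOfEquivOfLe (Subgroup.le_normalizer (H := P))).toEquiv, mul_comm,
    Subgroup.card_mul_index]

/-- The centralizer of a central involution of a Sylow two subgroup is that Sylow subgroup. -/
theorem Small5.cent_invol (h : Small5 G) (S : Sylow 2 G) {t : G} (ht : orderOf t = 2)
    (hc : ∀ s ∈ (S : Subgroup G), s * t = t * s) :
    Subgroup.centralizer ({t} : Set G) = (S : Subgroup G) := by
  haveI : Fact (Nat.Prime 2) := ⟨Nat.prime_two⟩
  refine S.3 (IsPGroup.iff_orderOf.2 fun y => ?_) fun s hs => Subgroup.mem_centralizer_singleton_iff.2 (hc s hs)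
  rw [← Subgroup.orderOf_coe]
  have hy := Subgroup.mem_centralizer_singleton_iff.1 y.2
  rcases h.order_cases (y : G) with e | e | e | e | e
  · exact ⟨0, by rw [e]; norm_num⟩
  · exact ⟨1, by rw [e]; norm_num⟩
  · rcases h.comm_order (Or.inl rfl) e (y := t) hy with e' | e' <;> omega
  · exact ⟨2, by rw [e]; norm_num⟩
  · rcases h.comm_order (Or.inr rfl) e (y := t) hy with e' | e' <;> omega

/-- An involution outside the largest normal two-subgroup has at least as many pairs of conjugates as the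
order of the group. -/
theorem Small5.card_le_class_sq (h : Small5 G) {t : G} (ht : orderOf t = 2) (hO : t ∉ Cfsg.pCore 2 G) :
    Nat.card G ≤ Nat.card {y : G // IsConj t y} ^ 2 := by
  classical
  obtain ⟨x, hx1, hxo, hxi⟩ := CfsgLib.Invol.exists_odd_inverted_of_notMem_pCore ht hO
  have key : ∀ p : ℕ, p = 3 ∨ p = 5 → orderOf x = p → Nat.card G ≤ Nat.card {y : G // IsConj t y} ^ 2 := by
    intro p hp hxp
    haveI : Fact p.Prime := ⟨by rcases hp with rfl | rfl <;> norm_num⟩
    obtain ⟨Q, hQ⟩ := (IsPGroup.of_card (p := p) (n := 1)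
      (show Nat.card (Subgroup.zpowers x) = p ^ 1 by rw [Nat.card_zpowers, hxp, pow_one])).exists_le_sylow
    have hxQ : x ∈ (Q : Subgroup G) := hQ (Subgroup.mem_zpowers x)
    have htN := h.ti hp Q hxQ hx1 (g := t) (by rw [hxi]; exact inv_mem hxQ)
    have hle : Subgroup.zpowers t ≤ Subgroup.normalizer ((Q : Subgroup G) : Set G) := Subgroup.zpowers_le.2 htN
    have hinv := (h.fpf hp Q.2 (A := Subgroup.zpowers t) (by
      rw [Nat.card_zpowers, ht]
      intro hd
      have := Nat.le_of_dvd two_pos hd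
      rcases hp with rfl | rfl <;> omega)).involution_inverts hle (Subgroup.mem_zpowers t) ht
    have hab : ∀ a ∈ (Q : Subgroup G), ∀ b ∈ (Q : Subgroup G), a * b = b * a := fun a ha b hb =>
      inv_injective (by
        rw [← hinv _ ((Q : Subgroup G).mul_mem ha hb), mul_inv_rev b a, ← hinv a ha, ← hinv b hb]
        group)
    have hcx := h.cent_eq hp Q hab hxQ hx1
    have htt : t * t = 1 := by rw [← pow_two, ← ht, pow_orderOf_eq_one]
    have hconj : ∀ q ∈ (Q : Subgroup G), IsConj t (q * t) := by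
      intro q hq
      obtain ⟨s, hs, hss⟩ : ∃ s ∈ (Q : Subgroup G), s * s = q := by
        refine ⟨q ^ ((p + 1) / 2), (Q : Subgroup G).pow_mem hq _, ?_⟩
        rw [← pow_add, show (p + 1) / 2 + (p + 1) / 2 = p + 1 by rcases hp with rfl | rfl <;> rfl, pow_succ,
          h.pow_eq_one hp Q.2 hq, one_mul]
      refine isConj_iff.2 ⟨s, ?_⟩
      calc s * t * s⁻¹ = s * (t * s⁻¹ * t⁻¹) * t := by group
        _ = q * t := by rw [hinv _ (inv_mem hs), inv_inv, hss]
    have hprod : ∀ q ∈ (Q : Subgroup G), (q * x * t) * (q * t) = x := by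
      intro q hq
      calc q * x * t * (q * t) = q * x * (t * q * t⁻¹) * (t * t) := by group
        _ = q * x * q⁻¹ := by rw [hinv q hq, htt, mul_one]
        _ = x := by rw [hab q hq x hxQ, mul_inv_cancel_right]
    choose g hg using fun y : {y : G // IsConj x y} => isConj_iff.1 y.2
    let Φ : {y : G // IsConj x y} × (Q : Subgroup G) → {y : G // IsConj t y} × {y : G // IsConj t y} :=
      fun r => (⟨g r.1 * ((r.2 : G) * x * t) * (g r.1)⁻¹,
          (hconj _ ((Q : Subgroup G).mul_mem r.2.2 hxQ)).trans (isConj_iff.2 ⟨_, rfl⟩)⟩,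
        ⟨g r.1 * ((r.2 : G) * t) * (g r.1)⁻¹, (hconj _ r.2.2).trans (isConj_iff.2 ⟨_, rfl⟩)⟩)
    have hΦ : Function.Injective Φ := by
      rintro ⟨y, q⟩ ⟨y', q'⟩ e
      have e1 : g y * ((q : G) * x * t) * (g y)⁻¹ = g y' * ((q' : G) * x * t) * (g y')⁻¹ :=
        congrArg (fun r => ((r.1 : {y : G // IsConj t y}) : G)) e
      have e2 : g y * ((q : G) * t) * (g y)⁻¹ = g y' * ((q' : G) * t) * (g y')⁻¹ :=
        congrArg (fun r => ((r.2 : {y : G // IsConj t y}) : G)) e
      have hy : ∀ (y : {y : G // IsConj x y}) (q : (Q : Subgroup G)),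
          g y * ((q : G) * x * t) * (g y)⁻¹ * (g y * ((q : G) * t) * (g y)⁻¹) = y.1 := fun y q => by
        rw [← hg y, ← congrArg (fun w => g y * w * (g y)⁻¹) (hprod _ q.2)]
        group
      have hyy : y = y' := Subtype.ext (by rw [← hy y q, e1, e2, hy y' q'])
      subst hyy
      have e3 : (q : G) = q' := mul_right_cancel (mul_left_cancel (mul_right_cancel e2))
      rw [Subtype.ext e3]
    have hc := Nat.card_le_card_of_injective Φ hΦ
    rw [Nat.card_prod, Nat.card_prod, card_isConj x, hcx, Subgroup.index_mul_card, ← pow_two] at hc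
    exact hc
  rcases h.order_cases x with e | e | e | e | e
  · exact absurd (orderOf_eq_one_iff.1 e) hx1
  · rw [e] at hxo; exact absurd hxo (by decide)
  · exact key 3 (Or.inl rfl) e
  · rw [e] at hxo; exact absurd hxo (by decide)
  · exact key 5 (Or.inr rfl) e

/-- With a noncyclic Sylow three subgroup of order nine and automizer of order eight the order is 720. -/
theorem Small5.order_of_eight (h : Small5 G) (P : Sylow 3 G) (hP9 : Nat.card (P : Subgroup G) = 9)
    (he : ((P : Subgroup G).subgroupOf (Subgroup.normalizer ((P : Subgroup G) : Set G))).index = 8)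
    (h5 : 5 ∣ Nat.card G) : Nat.card G = 720 := by
  classical
  haveI : Fact (Nat.Prime 2) := ⟨Nat.prime_two⟩
  haveI : Fact (Nat.Prime 3) := ⟨Nat.prime_three⟩
  haveI : Fact (Nat.Prime 5) := ⟨by norm_num⟩
  obtain ⟨S⟩ : Nonempty (Sylow 2 G) := inferInstance
  obtain ⟨R⟩ : Nonempty (Sylow 5 G) := inferInstance
  obtain ⟨a, ha⟩ := IsPGroup.iff_card.1 S.2
  obtain ⟨c, hc⟩ := IsPGroup.iff_card.1 R.2
  have hg := h.card_eq S P R
  rw [ha, hP9, hc] at hg
  have hc1 : 1 ≤ c := by
    by_contra hc0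
    have hR : Nat.card (R : Subgroup G) = 1 := by rw [hc, show c = 0 by omega, pow_zero]
    have := R.card_eq_multiplicity
    rw [hR] at this
    have hf : (Nat.card G).factorization 5 = 0 := by
      rcases Nat.pow_eq_one.1 this.symm with e | e
      · norm_num at e
      · exact e
    exact absurd ((Nat.Prime.dvd_iff_one_le_factorization (by norm_num) Nat.card_pos.ne').1 h5) (by omega)
  set N := Subgroup.normalizer ((P : Subgroup G) : Set G) with hN
  have hmul := N.card_mul_index
  rw [show Nat.card N = 8 * 9 by rw [hN, card_normalizer_eq, he, hP9], hg] at hmul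
  have ha3 : 3 ≤ a := by
    by_contra hlt
    have hd : 8 ∣ 2 ^ a * 9 * 5 ^ c := ⟨9 * N.index, by rw [← hmul]; ring⟩
    rw [mul_assoc] at hd
    have h8 := (Nat.Coprime.mul_right (by norm_num : Nat.Coprime 8 9)
      (Nat.Coprime.pow_right c (by norm_num))).dvd_of_dvd_mul_right hd
    have := Nat.le_of_dvd (pow_pos two_pos a) h8
    have := Nat.pow_le_pow_right (show 0 < 2 by norm_num) (show a ≤ 2 by omega)
    omega
  have hidx : N.index = 2 ^ (a - 3) * 5 ^ c := by
    have e : 72 * N.index = 72 * (2 ^ (a - 3) * 5 ^ c) := by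
      rw [show (72 : ℕ) * N.index = 8 * 9 * N.index by norm_num, hmul]
      conv_lhs => rw [show a = a - 3 + 3 by omega, pow_add]
      ring
    exact Nat.eq_of_mul_eq_mul_left (by norm_num) e
  have hA := h.index_mod (Or.inl rfl) P
  rw [← hN, hP9, hidx] at hA
  -- the Sylow five subgroup
  have hR1 : (R : Subgroup G) ≠ ⊥ := fun e => by
    rw [e, Subgroup.card_bot] at hc
    have := Nat.le_self_pow (show c ≠ 0 by omega) 5
    omega
  set e' := ((R : Subgroup G).subgroupOf (Subgroup.normalizer ((R : Subgroup G) : Set G))).index with he'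
  have hmem : e' ∈ fiveIdx := by
    simp only [fiveIdx, List.mem_cons, List.not_mem_nil, or_false]
    rcases h.sylow_cases (Or.inr rfl) R hR1 with h1 | ⟨h1, -⟩ <;> rw [← he'] at h1 <;> omega
  have hmulR := (Subgroup.normalizer ((R : Subgroup G) : Set G)).card_mul_index
  rw [card_normalizer_eq, ← he', hc, hg] at hmulR
  have hB0 : 9 * 2 ^ a = e' * (Subgroup.normalizer ((R : Subgroup G) : Set G)).index := by
    refine Nat.eq_of_mul_eq_mul_right (pow_pos (show 0 < 5 by norm_num) c) ?_
    rw [mul_comm 9, ← hmulR]; ring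
  have hmodR := h.index_mod (Or.inr rfl) R
  rw [hc, Nat.one_mod_eq_one.2 (by
    have := Nat.le_self_pow (show c ≠ 0 by omega) 5
    omega)] at hmodR
  set iR := (Subgroup.normalizer ((R : Subgroup G) : Set G)).index with hiR
  have hk : iR = 1 + iR / 5 ^ c * 5 ^ c := by
    have := Nat.mod_add_div iR (5 ^ c)
    rw [hmodR, mul_comm] at this
    exact this.symm
  rw [hk] at hB0
  -- the bound on the Sylow two subgroup
  have hO : Cfsg.pCore 2 G = ⊥ := by
    haveI := CfsgLib.Coprime.pCore_normal' (G := G) 2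
    by_contra hne
    have hab : ∀ x ∈ (P : Subgroup G), ∀ y ∈ (P : Subgroup G), x * y = y * x := by
      rcases h.sylow_cases (Or.inl rfl) P (fun e => by rw [e, Subgroup.card_bot] at hP9; norm_num at hP9) with
        h1 | ⟨-, h1⟩
      · rw [← hN, he] at h1; omega
      · exact h1
    haveI : IsMulCommutative (P : Subgroup G) := ⟨⟨fun x y => Subtype.ext (hab x x.2 y y.2)⟩⟩
    have hfpf : IsFpfOn (P : Subgroup G) (Cfsg.pCore 2 G) := by
      intro x hx hx1
      rw [eq_bot_iff]
      intro o ho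
      have hoP : o ∈ (P : Subgroup G) := h.cent_le (Or.inl rfl) P hx hx1 ho.2
      obtain ⟨i, hi⟩ := IsPGroup.iff_orderOf.1 (CfsgLib.Coprime.pCore_isPGroup (G := G) 2) ⟨o, ho.1⟩
      rw [← Subgroup.orderOf_coe] at hi
      have h9 : orderOf o ∣ 9 := by rw [← hP9, ← Subgroup.orderOf_mk o hoP]; exact orderOf_dvd_natCard _
      rw [hi] at h9
      have := Nat.eq_one_of_dvd_coprimes (Nat.Coprime.pow_left i (by norm_num : Nat.Coprime 2 9)) dvd_rfl h9
      exact orderOf_eq_one_iff.1 (hi.trans this)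
    have hcyc := hfpf.isCyclic (le_of_le_of_eq le_top (Subgroup.normalizer_eq_top_iff.2
      (CfsgLib.Coprime.pCore_normal' (G := G) 2)).symm) hne
    obtain ⟨x, hx⟩ := hcyc.exists_generator
    have := orderOf_eq_card_of_forall_mem_zpowers hx
    rw [hP9] at this
    have hd := orderOf_dvd_of_pow_eq_one
      (show x ^ 3 = 1 from Subtype.ext (h.pow_eq_one (Or.inl rfl) P.2 x.2))
    rw [this] at hd
    norm_num at hd
  obtain ⟨t, htS, ht2, htc⟩ : ∃ t ∈ (S : Subgroup G), orderOf t = 2 ∧ ∀ s ∈ (S : Subgroup G), s * t = t * s := by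
    haveI : Nontrivial (S : Subgroup G) := by
      rw [← Finite.one_lt_card_iff_nontrivial, ha]; exact Nat.one_lt_pow (by omega) (by norm_num)
    haveI := S.2.center_nontrivial
    obtain ⟨w, hw⟩ := exists_prime_orderOf_dvd_card' (G := Subgroup.center (S : Subgroup G)) 2 (by
      obtain ⟨i, hi⟩ := IsPGroup.iff_card.1 (S.2.to_subgroup (Subgroup.center (S : Subgroup G)))
      have h1 := Finite.one_lt_card (α := Subgroup.center (S : Subgroup G))
      rw [hi] at h1 ⊢
      exact dvd_pow_self 2 (fun e => by rw [e] at h1; norm_num at h1))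
    refine ⟨_, (w : (S : Subgroup G)).2, by rw [Subgroup.orderOf_coe, Subgroup.orderOf_coe, hw],
      fun s hs => congrArg Subtype.val (Subgroup.mem_center_iff.1 w.2 ⟨s, hs⟩)⟩
  have hle := h.card_le_class_sq ht2 (fun hm => by
    rw [hO, Subgroup.mem_bot] at hm
    rw [hm, orderOf_one] at ht2
    norm_num at ht2)
  rw [card_isConj, h.cent_invol S ht2 htc] at hle
  have hmulS := (S : Subgroup G).card_mul_index
  rw [ha, hg] at hmulS
  have hn : (S : Subgroup G).index = 9 * 5 ^ c :=
    Nat.eq_of_mul_eq_mul_left (pow_pos two_pos a) (by rw [hmulS]; ring)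
  rw [hn, hg] at hle
  have hC : 2 ^ a ≤ 9 * 5 ^ c := by
    refine Nat.le_of_mul_le_mul_right ?_ (show 0 < 9 * 5 ^ c by positivity)
    rw [← mul_assoc, ← pow_two]
    exact hle
  obtain ⟨rfl, rfl⟩ := solve ha3 hc1 hmem hA hB0 hC
  rw [hg]
  norm_num

end CfsgLib.Char.Epp
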