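import Cfsg.Agent.Lib.Char.Epp.Plane

/-!
# The critical group with element orders one to five: affine group of the plane over four elements
-/

set_option autoImplicit false
set_option linter.unusedSectionVars false

namespace CfsgLib.Char.Epp

open CfsgLib.Spor.Fi22.U6 CfsgLib.Char.Epp.Affine

universe u

variable {G : Type u} [Group G] [Finite G]

/-- A proper non-trivial invariant subgroup carries all five orders in a proper subgroup. -/
theorem Small5.all_orders (h : Small5 G) (π : G →* alternatingGroup (Fin 5))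
    (h2 : ∀ n ∈ π.ker, n * n = 1) (ψ : alternatingGroup (Fin 5) →* G) (hψ : ∀ a, π (ψ a) = a)
    {Q : Subgroup G} (hQn : Q.Normal) (hQ : Q ≤ π.ker) (hQ1 : Q ≠ ⊥) :
    ∀ k, 1 ≤ k → k ≤ 5 → ∃ g ∈ Q ⊔ ψ.range, orderOf g = k := by
  haveI : Fact (Nat.Prime 2) := ⟨Nat.prime_two⟩
  haveI : Fact (Nat.Prime 3) := ⟨Nat.prime_three⟩
  haveI : Fact (Nat.Prime 5) := ⟨by norm_num⟩
  obtain ⟨hb3, hb1, hr5, hr1, -, htt, -, -⟩ := five_facts
  have ht1 := orbit_facts.2.2.2.2.2.1
  have hψinj : Function.Injective ψ := fun a b e => by rw [← hψ a, e, hψ]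
  have hψo : ∀ a, orderOf (ψ a) = orderOf a := orderOf_injective ψ hψinj
  have hle : ψ.range ≤ Q ⊔ ψ.range := le_sup_right
  intro k hk1 hk5
  interval_cases k
  · exact ⟨1, Subgroup.one_mem _, orderOf_one⟩
  · exact ⟨ψ tau, hle ⟨_, rfl⟩, by rw [hψo, orderOf_eq_prime (by rw [pow_two, htt]) ht1]⟩
  · exact ⟨ψ beta, hle ⟨_, rfl⟩, by rw [hψo, orderOf_eq_prime hb3 hb1]⟩
  · -- an element of order four
    obtain ⟨w, hw, hwt⟩ : ∃ w ∈ Q, ψ tau * w * (ψ tau)⁻¹ ≠ w := by
      by_contra hc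
      push Not at hc
      let K : Subgroup (alternatingGroup (Fin 5)) := (Subgroup.centralizer (Q : Set G)).comap ψ
      haveI hKn : K.Normal := ⟨fun a ha c => by
        rw [Subgroup.mem_comap, Subgroup.mem_centralizer_iff] at ha ⊢
        intro q hq
        have hq' : (ψ c)⁻¹ * q * ψ c ∈ Q := by
          have := hQn.conj_mem q hq (ψ c)⁻¹
          rwa [inv_inv] at this
        rw [map_mul, map_mul, map_inv]
        calc q * (ψ c * ψ a * (ψ c)⁻¹) = ψ c * (((ψ c)⁻¹ * q * ψ c) * ψ a) * (ψ c)⁻¹ := by group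
          _ = ψ c * (ψ a * ((ψ c)⁻¹ * q * ψ c)) * (ψ c)⁻¹ := by rw [ha _ hq']
          _ = _ := by group⟩
      have htK : tau ∈ K := by
        rw [Subgroup.mem_comap, Subgroup.mem_centralizer_iff]
        exact fun q hq => (mul_inv_eq_iff_eq_mul.1 (hc q hq)).symm
      haveI := alternatingGroup.isSimpleGroup_five
      have htop : K = ⊤ := (IsSimpleGroup.eq_bot_or_eq_top_of_normal K hKn).resolve_left fun e =>
        ht1 (by rwa [e, Subgroup.mem_bot] at htK)
      have hbK : beta ∈ K := htop ▸ Subgroup.mem_top _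
      rw [Subgroup.mem_comap, Subgroup.mem_centralizer_iff] at hbK
      obtain ⟨q, hq, hq1⟩ := (Subgroup.bot_or_exists_ne_one Q).resolve_left hQ1
      exact hq1 (h.fpf_two (Or.inl rfl) (by rw [hψo, orderOf_eq_prime hb3 hb1]) (h2 q (hQ hq)) (hbK q hq).symm)
    refine ⟨w * ψ tau, Subgroup.mul_mem _ ((le_sup_left : Q ≤ Q ⊔ ψ.range) hw) (hle ⟨_, rfl⟩), ?_⟩
    have hπ : π (w * ψ tau) = tau := by rw [map_mul, MonoidHom.mem_ker.1 (hQ hw), hψ, one_mul]
    have hd := orderOf_map_dvd π (w * ψ tau)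
    rw [hπ, orderOf_eq_prime (by rw [pow_two, htt]) ht1] at hd
    have h5 := h (w * ψ tau)
    have hpos := orderOf_pos (w * ψ tau)
    have hne : orderOf (w * ψ tau) ≠ 2 := fun e => hwt (by
      have e' := pow_orderOf_eq_one (w * ψ tau)
      rw [e, pow_two] at e'
      have hti : (ψ tau)⁻¹ = ψ tau := by
        rw [← map_inv, show (tau : alternatingGroup (Fin 5))⁻¹ = tau from inv_eq_of_mul_eq_one_right htt]
      rw [hti]
      calc ψ tau * w * ψ tau = w⁻¹ * (w * ψ tau * (w * ψ tau)) := by group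
        _ = w := by rw [e', mul_one, inv_eq_of_mul_eq_one_right (h2 w (hQ hw))])
    omega
  · exact ⟨ψ rho, hle ⟨_, rfl⟩, by rw [hψo, orderOf_eq_prime hr5 hr1]⟩

/-- The group is the affine group. -/
theorem Small5.iso_aff (h : Small5 G) (π : G →* alternatingGroup (Fin 5)) (hπ : Function.Surjective π)
    (h2 : ∀ n ∈ π.ker, n * n = 1) (hker : π.ker ≠ ⊥)
    (hproper : ∀ H : Subgroup G, (∀ k, 1 ≤ k → k ≤ 5 → ∃ g ∈ H, orderOf g = k) → H = ⊤) :
    Nonempty (G ≃* Aff) := by
  classical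
  obtain ⟨ψ, hψ, hgen⟩ := h.exists_complement π hπ h2
  obtain ⟨hb3, hb1, -, -, -, htt, -, -⟩ := five_facts
  obtain ⟨hss, hts, hX3, hX1, hXX, ht1, hs1⟩ := orbit_facts
  haveI : Fact (Nat.Prime 3) := ⟨Nat.prime_three⟩
  haveI := alternatingGroup.isSimpleGroup_five
  set N := π.ker with hN
  have hNn : N.Normal := MonoidHom.normal_ker π
  have hψinj : Function.Injective ψ := fun a b e => by rw [← hψ a, e, hψ]
  have hcommG : ∀ n ∈ N, ∀ n' ∈ N, n * n' = n' * n := fun n hn n' hn' => by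
    have e := h2 _ (N.mul_mem hn hn')
    calc n * n' = n * (n * n' * (n * n')) * n' := by rw [e, mul_one]
      _ = (n * n) * n' * n * (n' * n') := by group
      _ = n' * n := by rw [h2 n hn, h2 n' hn', one_mul, mul_one]
  letI : CommGroup N :=
    { (inferInstance : Group N) with mul_comm := fun a b => Subtype.ext (hcommG a a.2 b b.2) }
  have hsq : ∀ a : N, a * a = 1 := fun a => Subtype.ext (h2 a a.2)
  have hsq' : ∀ a z : N, a * (a * z) = z := fun a z => by rw [← mul_assoc, hsq, one_mul]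
  have hdecomp : ∀ g : G, g * (ψ (π g))⁻¹ ∈ N := fun g => by
    rw [hN, MonoidHom.mem_ker, map_mul, map_inv, hψ, mul_inv_cancel]
  -- irreducibility
  have hirr : ∀ Q : Subgroup G, Q ≤ N → Q ≠ ⊥ → ψ tau ∈ Subgroup.normalizer (Q : Set G) →
      ψ beta ∈ Subgroup.normalizer (Q : Set G) → Q = N := by
    intro Q hQ hQ1 ht hb
    have hQn : Q.Normal := Subgroup.normalizer_eq_top_iff.1 (eq_top_iff.2 fun g _ => by
      have hm : g * (ψ (π g))⁻¹ ∈ Subgroup.normalizer (Q : Set G) := by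
        rw [Subgroup.mem_normalizer_iff]
        intro q
        have hn := hdecomp g
        constructor
        · intro hq
          rwa [hcommG _ hn q (hQ hq), mul_inv_cancel_right]
        · intro hq
          have hqN : q ∈ N := by
            have := hNn.conj_mem _ (hQ hq) (g * (ψ (π g))⁻¹)⁻¹
            rwa [inv_inv, show (g * (ψ (π g))⁻¹)⁻¹ * (g * (ψ (π g))⁻¹ * q * (g * (ψ (π g))⁻¹)⁻¹) *
              (g * (ψ (π g))⁻¹) = q by group] at this
          rwa [hcommG _ hn q hqN, mul_inv_cancel_right] at hq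
      have := Subgroup.mul_mem _ hm (hgen _ ht hb (π g))
      rwa [inv_mul_cancel_right] at this)
    refine le_antisymm hQ fun n hn => ?_
    have hH := hproper (Q ⊔ ψ.range) (h.all_orders π h2 ψ hψ hQn hQ hQ1)
    haveI := hQn
    obtain ⟨q, hq, l, ⟨a, rfl⟩, e⟩ := Subgroup.mem_sup_of_normal_left.1 (hH ▸ Subgroup.mem_top n)
    have ha : a = 1 := by
      have e' := congrArg π e
      rw [map_mul, MonoidHom.mem_ker.1 (hQ hq), hψ, MonoidHom.mem_ker.1 hn, one_mul] at e'
      exact e'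
    rw [ha, map_one, mul_one] at e
    rwa [← e]
  -- conjugation
  obtain ⟨cj, hcj⟩ : ∃ cj : alternatingGroup (Fin 5) →* MulAut N,
      ∀ a (w : N), ((cj a w : N) : G) = ψ a * w * (ψ a)⁻¹ :=
    ⟨(MulAut.conjNormal (H := N)).comp ψ, fun a w => MulAut.conjNormal_apply _ _⟩
  have hcomp : ∀ a b : alternatingGroup (Fin 5), ∀ w : N, cj (a * b) w = cj a (cj b w) := fun a b w => by
    rw [map_mul]; rfl
  have hfix : ∀ (x : alternatingGroup (Fin 5)), x ^ 3 = 1 → x ≠ 1 → ∀ w : N,
      w * cj x w * cj (x * x) w = 1 := by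
    intro x hx hx1 w
    have hq : cj x (w * cj x w * cj (x * x) w) = w * cj x w * cj (x * x) w := by
      have e3 : cj x (cj (x * x) w) = w := by
        rw [← MulAut.mul_apply, ← map_mul, show x * (x * x) = x ^ 3 by rw [pow_succ, pow_two, mul_assoc], hx,
          map_one, MulAut.one_apply]
      rw [map_mul, map_mul, e3, hcomp x x]
      ac_rfl
    refine Subtype.ext (h.fpf_two (Or.inl rfl)
      (h.orderOf_lift π (Or.inl rfl) hx hx1 (hψ x)) (h2 _ (Subtype.prop _)) ?_)
    have e := congrArg Subtype.val hq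
    rw [hcj] at e
    exact mul_inv_eq_iff_eq_mul.1 e
  -- a vector fixed by a four-group
  obtain ⟨v, hv1, hvt, hvs⟩ : ∃ v : N, v ≠ 1 ∧ cj tau v = v ∧ cj sigma v = v := by
    obtain ⟨⟨w, hwN⟩, hw⟩ := N.ne_bot_iff_exists_ne_one.1 hker
    have mk : ∀ (a : alternatingGroup (Fin 5)), a * a = 1 → ∀ w : N, cj a (w * cj a w) = w * cj a w := by
      intro a ha w
      rw [map_mul, ← MulAut.mul_apply, ← map_mul, ha, map_one, MulAut.one_apply, mul_comm]
    obtain ⟨w₁, hw₁, hw₁t⟩ : ∃ w₁ : N, w₁ ≠ 1 ∧ cj tau w₁ = w₁ := by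
      by_cases e : cj tau ⟨w, hwN⟩ = ⟨w, hwN⟩
      · exact ⟨_, hw, e⟩
      · exact ⟨⟨w, hwN⟩ * cj tau ⟨w, hwN⟩,
          fun e1 => e ((eq_inv_of_mul_eq_one_right e1).trans (inv_eq_of_mul_eq_one_right (hsq _))), mk _ htt _⟩
    by_cases e : cj sigma w₁ = w₁
    · exact ⟨w₁, hw₁, hw₁t, e⟩
    · refine ⟨w₁ * cj sigma w₁,
        fun e1 => e ((eq_inv_of_mul_eq_one_right e1).trans (inv_eq_of_mul_eq_one_right (hsq _))), ?_, mk _ hss _⟩
      rw [map_mul, hw₁t, ← MulAut.mul_apply, ← map_mul, hts, map_mul, MulAut.mul_apply, hw₁t]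
  obtain ⟨Φ, hadd, hΦ0, hΦT, hΦB, hΦ10⟩ := exists_plane cj hsq hfix v hvt hvs
  -- bijectivity
  let ΦG : Multiplicative Pl →* G :=
    { toFun := fun x => (Φ (Multiplicative.toAdd x) : G)
      map_one' := by rw [toAdd_one, hΦ0, OneMemClass.coe_one]
      map_mul' := fun x y => by rw [toAdd_mul, hadd, Subgroup.coe_mul] }
  have hrange : ∀ a : alternatingGroup (Fin 5), (∀ x, ∃ y, Φ y = cj a (Φ x)) →
      ψ a ∈ Subgroup.normalizer (ΦG.range : Set G) := by
    intro a ha
    refine Subgroup.mem_normalizer_iff_map_conj_eq.2 (Subgroup.eq_of_le_of_card_ge ?_ ?_)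
    · rintro _ ⟨_, ⟨x, rfl⟩, rfl⟩
      obtain ⟨y, hy⟩ := ha (Multiplicative.toAdd x)
      exact ⟨Multiplicative.ofAdd y, (congrArg Subtype.val hy).trans (hcj a _)⟩
    · exact (Subgroup.card_map_of_injective (MulAut.conj (ψ a)).injective).ge
  have hsurjΦ : Function.Surjective Φ := by
    have hQ : ΦG.range = N := by
      refine hirr _ ?_ ?_ (hrange tau fun x => ⟨_, hΦT x⟩) (hrange beta fun x => ⟨_, hΦB x⟩)
      · rintro _ ⟨x, rfl⟩; exact (Φ (Multiplicative.toAdd x)).2
      · intro e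
        have hm : (Φ (1, 0) : G) ∈ ΦG.range := ⟨Multiplicative.ofAdd (1, 0), rfl⟩
        rw [e, Subgroup.mem_bot] at hm
        apply hv1
        rw [← hΦ10]
        exact Subtype.ext hm
    intro n
    obtain ⟨x, hx⟩ : (n : G) ∈ ΦG.range := hQ.symm ▸ n.2
    exact ⟨Multiplicative.toAdd x, Subtype.ext hx⟩
  have hinjΦ : ∀ x, Φ x = 1 → x = 0 := fun x hx =>
    eq_zero_of_stable (K := fun x => Φ x = 1)
      (fun y hy => ⟨by rw [hΦT, hy, map_one], by rw [hΦB, hy, map_one]⟩)
      (fun e => hv1 (hΦ10.symm.trans e)) hx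
  -- the action on cosets of the complement
  set L := ψ.range with hL
  have hNL : ∀ g, g ∈ N → g ∈ L → g = 1 := by
    rintro g hg ⟨a, rfl⟩
    rw [hN, MonoidHom.mem_ker, hψ] at hg
    rw [hg, map_one]
  let E0 : Pl → G ⧸ L := fun x => ((Φ x : G) : G ⧸ L)
  have hE0 : Function.Bijective E0 := by
    constructor
    · intro x y e
      have hm : Φ (x + y) = 1 := by
        rw [hadd]
        refine Subtype.ext (hNL _ (Subtype.prop _) ?_)
        have := QuotientGroup.eq.1 e
        rwa [inv_eq_of_mul_eq_one_right (h2 _ (Φ x).2)] at this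
      have := hinjΦ _ hm
      calc x = x + y + y := by
            rw [add_assoc, show y + y = 0 from Prod.ext ((show ∀ a : Four, a + a = 0 by decide) _)
              ((show ∀ a : Four, a + a = 0 by decide) _), add_zero]
        _ = y := by rw [this, zero_add]
    · intro c
      obtain ⟨g, rfl⟩ := QuotientGroup.mk_surjective c
      obtain ⟨x, hx⟩ := hsurjΦ ⟨_, hdecomp g⟩
      refine ⟨x, QuotientGroup.eq.2 ?_⟩
      rw [hx]
      exact ⟨π g, by group⟩
  let E := Equiv.ofBijective E0 hE0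
  let f : G →* Equiv.Perm Pl := (E.symm.permCongrHom).toMonoidHom.comp (MulAction.toPermHom G (G ⧸ L))
  have hf : ∀ g x, f g x = E.symm (g • E x) := fun g x => rfl
  have hf' : ∀ g x y, g • E x = E y → f g x = y := fun g x y e => by rw [hf, e, Equiv.symm_apply_apply]
  have hsmul : ∀ (g : G) (x : Pl), g • E x = ((g * (Φ x : G) : G) : G ⧸ L) := fun g x => rfl
  have hft : ∀ x, f (ψ tau) x = fT x := fun x => hf' _ _ _ (by
    rw [hsmul]
    refine (QuotientGroup.eq.2 ?_).trans rfl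
    rw [hΦT, hcj]
    exact ⟨tau⁻¹, by rw [map_inv]; group⟩)
  have hfb : ∀ x, f (ψ beta) x = fB x := fun x => hf' _ _ _ (by
    rw [hsmul]
    refine (QuotientGroup.eq.2 ?_).trans rfl
    rw [hΦB, hcj]
    exact ⟨beta⁻¹, by rw [map_inv]; group⟩)
  have hfn : ∀ a x, f (Φ a : G) x = a + x := fun a x => hf' _ _ _ (by
    rw [hsmul]
    refine (QuotientGroup.eq.2 ?_).trans rfl
    rw [hadd, Subgroup.coe_mul, inv_mul_cancel]
    exact L.one_mem)
  have hfinj : Function.Injective f := by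
    rw [← MonoidHom.ker_eq_bot_iff, Subgroup.eq_bot_iff_forall]
    intro g hg
    have hfix' : ∀ x, g • E x = E x := fun x => E.symm.injective (by
      rw [← hf, MonoidHom.mem_ker.1 hg]
      simp)
    have hgL : g ∈ L := by
      have e := hfix' 0
      rw [hsmul] at e
      have := QuotientGroup.eq.1 (e.trans (show E 0 = ((Φ 0 : G) : G ⧸ L) from rfl))
      rw [hΦ0, OneMemClass.coe_one, mul_one, mul_one, inv_mem_iff] at this
      exact this
    obtain ⟨a, rfl⟩ := hgL
    have hcen : ∀ w : N, cj a w = w := by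
      intro w
      obtain ⟨x, rfl⟩ := hsurjΦ w
      have e := QuotientGroup.eq.1 ((hsmul _ x).symm.trans (hfix' x))
      have hmem : (cj a (Φ x) : G)⁻¹ * (Φ x : G) ∈ L := by
        rw [hcj, show (ψ a * (Φ x : G) * (ψ a)⁻¹)⁻¹ * (Φ x : G) = ψ a * ((ψ a * (Φ x : G))⁻¹ * (Φ x : G)) by
          group]
        exact L.mul_mem ⟨a, rfl⟩ e
      exact Subtype.ext (inv_mul_eq_one.1 (hNL _ (N.mul_mem (N.inv_mem (Subtype.prop _)) (Subtype.prop _)) hmem))
    have hK : a ∈ cj.ker := MonoidHom.mem_ker.2 (MulEquiv.ext hcen)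
    rcases IsSimpleGroup.eq_bot_or_eq_top_of_normal cj.ker inferInstance with e | e
    · rw [e, Subgroup.mem_bot] at hK
      rw [hK, map_one]
    · exfalso
      have hb : cj beta = 1 := MonoidHom.mem_ker.1 (e ▸ Subgroup.mem_top beta)
      have := hfix beta hb3 hb1 v
      rw [map_mul, hb, one_mul, MulAut.one_apply, hsq, one_mul] at this
      exact hv1 this
  -- comparison with the model
  let fA : Aff →* Equiv.Perm Pl := MulAction.toPermHom Aff Pl
  have hclosure : Subgroup.closure (insert (ψ tau) (insert (ψ beta) (Set.range fun a => (Φ a : G)))) = ⊤ := by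
    refine eq_top_iff.2 fun g _ => ?_
    set S := Subgroup.closure (insert (ψ tau) (insert (ψ beta) (Set.range fun a => (Φ a : G))))
    have h1 : g * (ψ (π g))⁻¹ ∈ S := by
      obtain ⟨x, hx⟩ := hsurjΦ ⟨_, hdecomp g⟩
      exact Subgroup.subset_closure (Or.inr (Or.inr ⟨x, congrArg Subtype.val hx⟩))
    have h2' := hgen S (Subgroup.subset_closure (Or.inl rfl)) (Subgroup.subset_closure (Or.inr (Or.inl rfl))) (π g)
    have := S.mul_mem h1 h2'
    rwa [inv_mul_cancel_right] at this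
  have hsub : f.range ≤ fA.range := by
    rw [MonoidHom.range_eq_map, ← hclosure, MonoidHom.map_closure, Subgroup.closure_le]
    rintro _ ⟨g, (rfl | rfl | ⟨a, rfl⟩), rfl⟩
    · exact ⟨mT, Equiv.ext fun x => (mT_smul x).trans (hft x).symm⟩
    · exact ⟨mB, Equiv.ext fun x => (mB_smul x).trans (hfb x).symm⟩
    · exact ⟨mTr a, Equiv.ext fun x => (mTr_smul a x).trans (hfn a x).symm⟩
  have hGcard : Nat.card G = 960 := by
    rw [Subgroup.card_eq_card_quotient_mul_card_subgroup L, Nat.card_congr E.symm, hL,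
      Nat.card_congr (MonoidHom.ofInjective hψinj).symm.toEquiv, Nat.card_eq_fintype_card (α := Pl),
      nat_card_alternatingGroup, Nat.card_fin]
    rfl
  have heq : f.range = fA.range := by
    refine Subgroup.eq_of_le_of_card_ge hsub ?_
    rw [Nat.card_congr (MonoidHom.ofInjective hfinj).symm.toEquiv,
      Nat.card_congr (MonoidHom.ofInjective toPermHom_injective).symm.toEquiv, hGcard]
    exact card_aff_le
  exact ⟨(MonoidHom.ofInjective hfinj).trans ((MulEquiv.subgroupCongr heq).trans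
    (MonoidHom.ofInjective toPermHom_injective).symm)⟩

end CfsgLib.Char.Epp
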