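import Cfsg.Agent.Lib.Char.Epp.Count

/-!
# Groups whose element orders are at most five: no automizer of order eight in order 720
-/

set_option autoImplicit false
set_option linter.unusedSectionVars false

namespace CfsgLib.Char.Epp

open CfsgLib.Coprime

universe u

variable {G : Type u} [Group G] [Finite G]

/-- An involution of the normalizer of a commutative Sylow three subgroup is conjugate to any other one. -/
theorem Small5.invol_conj (h : Small5 G) (P : Sylow 3 G)
    (hab : ∀ a ∈ (P : Subgroup G), ∀ b ∈ (P : Subgroup G), a * b = b * a) (hP1 : (P : Subgroup G) ≠ ⊥)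
    {y z : G} (hy : y ∈ Subgroup.normalizer ((P : Subgroup G) : Set G))
    (hz : z ∈ Subgroup.normalizer ((P : Subgroup G) : Set G)) (hy2 : orderOf y = 2) (hz2 : orderOf z = 2) :
    ∃ p ∈ (P : Subgroup G), y = p * z * p⁻¹ := by
  haveI : Fact (Nat.Prime 3) := ⟨Nat.prime_three⟩
  have hinv : ∀ {t : G}, t ∈ Subgroup.normalizer ((P : Subgroup G) : Set G) → orderOf t = 2 →
      ∀ a ∈ (P : Subgroup G), t * a * t⁻¹ = a⁻¹ := fun {t} htN ht =>
    (h.fpf (Or.inl rfl) P.2 (A := Subgroup.zpowers t) (by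
      rw [Nat.card_zpowers, ht]; norm_num)).involution_inverts
      (Subgroup.zpowers_le.2 htN) (Subgroup.mem_zpowers t) ht
  obtain ⟨x, hx, hx1⟩ := (Subgroup.bot_or_exists_ne_one _).resolve_left hP1
  have hzz : z * z = 1 := by rw [← pow_two, ← hz2, pow_orderOf_eq_one]
  have hp : y * z ∈ (P : Subgroup G) := by
    refine h.cent_le (Or.inl rfl) P hx hx1 (Subgroup.mem_centralizer_singleton_iff.2 ?_)
    calc y * z * x = y * (z * x * z⁻¹) * y⁻¹ * (y * z) := by group
      _ = x * (y * z) := by rw [hinv hz hz2 x hx, hinv hy hy2 _ (inv_mem hx), inv_inv]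
  refine ⟨(y * z) ^ 2, (P : Subgroup G).pow_mem hp 2, ?_⟩
  have hp3 : (y * z) ^ 3 = 1 := h.pow_eq_one (Or.inl rfl) P.2 hp
  calc y = y * z * z := by rw [mul_assoc, hzz, mul_one]
    _ = (y * z) ^ 2 * (y * z) ^ 2 * z := by
        rw [← pow_add, show 2 + 2 = 3 + 1 from rfl, pow_succ (y * z) 3, hp3, one_mul]
    _ = (y * z) ^ 2 * (z * ((y * z) ^ 2)⁻¹ * z⁻¹) * z := by
        rw [hinv hz hz2 _ (inv_mem ((P : Subgroup G).pow_mem hp 2)), inv_inv]
    _ = _ := by group

/-- The configuration is impossible. -/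
theorem Small5.false_of_720 (h : Small5 G) (P : Sylow 3 G) (hP9 : Nat.card (P : Subgroup G) = 9)
    (he : ((P : Subgroup G).subgroupOf (Subgroup.normalizer ((P : Subgroup G) : Set G))).index = 8)
    (hg : Nat.card G = 720) : False := by
  classical
  haveI : Fact (Nat.Prime 2) := ⟨Nat.prime_two⟩
  haveI : Fact (Nat.Prime 3) := ⟨Nat.prime_three⟩
  set N := Subgroup.normalizer ((P : Subgroup G) : Set G) with hN
  have hP1 : (P : Subgroup G) ≠ ⊥ := fun e => by rw [e, Subgroup.card_bot] at hP9; norm_num at hP9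
  have hab : ∀ x ∈ (P : Subgroup G), ∀ y ∈ (P : Subgroup G), x * y = y * x := by
    rcases h.sylow_cases (Or.inl rfl) P hP1 with h1 | ⟨-, h1⟩
    · rw [← hN, he] at h1; omega
    · exact h1
  have hN72 : Nat.card N = 72 := by rw [hN, card_normalizer_eq, he, hP9]
  have hidx : N.index = 10 := by
    have := N.card_mul_index
    rw [hN72, hg] at this
    omega
  obtain ⟨H, hHN, hH8⟩ : ∃ H : Subgroup G, H ≤ N ∧ Nat.card H = 8 := by
    obtain ⟨H₀, hH₀⟩ := Sylow.exists_subgroup_card_pow_prime 2 (G := N) (n := 3) (by rw [hN72]; norm_num)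
    exact ⟨H₀.map N.subtype, Subgroup.map_subtype_le _,
      by rw [Subgroup.card_map_of_injective N.subtype_injective, hH₀]; norm_num⟩
  have hfH : IsFpfOn H (P : Subgroup G) := h.fpf (Or.inl rfl) P.2 (by rw [hH8]; norm_num)
  obtain ⟨z₀, hz₀⟩ := exists_prime_orderOf_dvd_card' (G := H) 2 (by rw [hH8]; norm_num)
  obtain ⟨z, hz, hz2⟩ : ∃ z ∈ H, orderOf z = 2 := ⟨_, z₀.2, by rw [Subgroup.orderOf_coe, hz₀]⟩
  have hz1 : z ≠ 1 := fun e => by rw [e, orderOf_one] at hz2; norm_num at hz2
  have huniq : ∀ t ∈ H, orderOf t = 2 → t = z := fun t ht ht2 =>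
    hfH.unique_involution hHN hP1 hz ht hz2 ht2
  have hsq : ∀ q ∈ H, q ≠ 1 → q ≠ z → q * q = z := by
    intro q hq q1 q2
    rw [← pow_two]
    have hd : orderOf q ∣ 8 := by rw [← hH8, ← Subgroup.orderOf_mk q hq]; exact orderOf_dvd_natCard _
    rcases h.order_cases q with e | e | e | e | e
    · exact absurd (orderOf_eq_one_iff.1 e) q1
    · exact absurd (huniq q hq e) q2
    · rw [e] at hd; norm_num at hd
    · refine huniq _ (H.pow_mem hq 2) ?_
      rw [orderOf_pow, e]; rfl
    · rw [e] at hd; norm_num at hd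
  have hnc : ¬ ∀ a ∈ H, ∀ b ∈ H, a * b = b * a := by
    intro hc
    haveI : IsMulCommutative H := ⟨⟨fun a b => Subtype.ext (hc a a.2 b b.2)⟩⟩
    obtain ⟨x, hx⟩ := (hfH.isCyclic hHN hP1).exists_generator
    have e := orderOf_eq_card_of_forall_mem_zpowers hx
    rw [hH8, ← Subgroup.orderOf_coe] at e
    have := h (x : G)
    omega
  -- the centralizer of the involution
  obtain ⟨S, hHS⟩ := (IsPGroup.of_card (p := 2) (n := 3) (show Nat.card H = 2 ^ 3 by rw [hH8]; norm_num)).exists_le_sylow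
  have hS16 : Nat.card (S : Subgroup G) = 16 := by
    rw [S.card_eq_multiplicity, hg, show (720 : ℕ) = 2 ^ 4 * 45 by norm_num,
      Nat.factorization_mul (by norm_num) (by norm_num), Finsupp.add_apply,
      Nat.Prime.factorization_pow Nat.prime_two, Finsupp.single_eq_same,
      Nat.factorization_eq_zero_of_not_dvd (show ¬ 2 ∣ 45 by norm_num)]
    norm_num
  have hSN : ∀ s ∈ (S : Subgroup G), s ∈ N → s ∈ H := by
    intro s hs hsN
    have hle : H ≤ (S : Subgroup G) ⊓ N := le_inf hHS hHN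
    have hd1 := Subgroup.card_dvd_of_le (inf_le_left : (S : Subgroup G) ⊓ N ≤ S)
    have hd2 := Subgroup.card_dvd_of_le (inf_le_right : (S : Subgroup G) ⊓ N ≤ N)
    rw [hS16] at hd1
    rw [hN72] at hd2
    have h8 := Nat.le_of_dvd (by norm_num) (Nat.dvd_gcd hd1 hd2)
    rw [show Nat.gcd 16 72 = 8 by norm_num] at h8
    rw [Subgroup.eq_of_le_of_card_ge hle (by rw [hH8]; exact h8)]
    exact ⟨hs, hsN⟩
  set H' := H.subgroupOf (S : Subgroup G) with hH'
  have hH'2 : H'.index = 2 := by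
    have e := H'.card_mul_index
    rw [hH', Nat.card_congr (Subgroup.subgroupOfEquivOfLe hHS).toEquiv, hH8, hS16] at e
    rw [hH']; omega
  have hnorm : ∀ s ∈ (S : Subgroup G), ∀ q ∈ H, s * q * s⁻¹ ∈ H := fun s hs q hq =>
    (Subgroup.normal_of_index_eq_two hH'2).conj_mem ⟨q, hHS hq⟩ hq ⟨s, hs⟩
  have hzc : ∀ s ∈ (S : Subgroup G), s * z = z * s := by
    intro s hs
    have e := huniq _ (hnorm s hs z hz) (by
      rw [← MulAut.conj_apply, MulEquiv.orderOf_eq, hz2])
    exact mul_inv_eq_iff_eq_mul.1 e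
  have hCz := h.cent_invol S hz2 hzc
  obtain ⟨v, hv, hvH⟩ : ∃ v ∈ (S : Subgroup G), v ∉ H := by
    by_contra hc
    push Not at hc
    have := Subgroup.card_dvd_of_le (show (S : Subgroup G) ≤ H from hc)
    rw [hS16, hH8] at this
    norm_num at this
  have hprod : ∀ a ∈ (S : Subgroup G), ∀ b ∈ (S : Subgroup G), a ∉ H → b ∉ H → a * b ∈ H := by
    intro a ha b hb haH hbH
    exact (Subgroup.mul_mem_iff_of_index_two hH'2 (a := ⟨a, ha⟩) (b := ⟨b, hb⟩)).2
      (iff_of_false haH hbH)
  -- fixed cosets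
  set X := G ⧸ N with hX
  set c₀ : X := ((1 : G) : X) with hc₀
  set c₁ : X := (v : X) with hc₁
  have hzfix : ∀ x : X, z • x = x ↔ x = c₀ ∨ x = c₁ := by
    intro x
    obtain ⟨g, rfl⟩ := QuotientGroup.mk_surjective x
    have hiff : z • (g : X) = (g : X) ↔ g⁻¹ * z * g ∈ N := by
      rw [MulAction.Quotient.smul_mk, smul_eq_mul, QuotientGroup.eq,
        show (z * g)⁻¹ * g = (g⁻¹ * z * g)⁻¹ by group, inv_mem_iff]
    rw [hiff]
    constructor
    · intro hm
      obtain ⟨p, hp, e⟩ := h.invol_conj P hab hP1 hm (hHN hz) (by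
        rw [show g⁻¹ * z * g = MulAut.conj g⁻¹ z by rw [MulAut.conj_apply, inv_inv],
          MulEquiv.orderOf_eq, hz2]) hz2
      have hgp : g * p ∈ (S : Subgroup G) := by
        rw [← hCz, Subgroup.mem_centralizer_singleton_iff]
        calc g * p * z = g * (p * z * p⁻¹) * p := by group
          _ = z * (g * p) := by rw [← e]; group
      have hgx : (g : X) = ((g * p : G) : X) := by
        rw [QuotientGroup.eq, inv_mul_cancel_left]
        exact Subgroup.le_normalizer hp
      rw [hgx]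
      by_cases hm' : g * p ∈ H
      · left
        rw [hc₀, QuotientGroup.eq, mul_one]
        exact N.inv_mem (hHN hm')
      · right
        rw [hc₁, QuotientGroup.eq]
        exact hHN (hprod _ (inv_mem hgp) _ hv (fun h' => hm' (inv_inv (g * p) ▸ inv_mem h')) hvH)
    · rintro (e | e)
      · rw [hc₀, QuotientGroup.eq, mul_one, inv_mem_iff] at e
        exact N.mul_mem (N.mul_mem (N.inv_mem e) (hHN hz)) e
      · rw [hc₁, QuotientGroup.eq] at e
        have e' : g⁻¹ * z * g = g⁻¹ * v * z * (g⁻¹ * v)⁻¹ := by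
          calc g⁻¹ * z * g = g⁻¹ * (z * v) * v⁻¹ * g := by group
            _ = g⁻¹ * (v * z) * v⁻¹ * g := by rw [hzc v hv]
            _ = _ := by group
        rw [e']
        exact N.mul_mem (N.mul_mem e (hHN hz)) (N.inv_mem e)
  have hfree : ∀ q ∈ H, ∀ x : X, x ≠ c₀ → x ≠ c₁ → q • x = x → q = 1 := by
    intro q hq x x0 x1 e
    by_contra q1
    have hzx : z • x = x := by
      by_cases q2 : q = z
      · rw [← q2, e]
      · rw [← hsq q hq q1 q2, mul_smul, e, e]
    rcases (hzfix x).1 hzx with e' | e'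
    · exact x0 e'
    · exact x1 e'
  have hzS : z ∈ (S : Subgroup G) := hHS hz
  have hperm : ∀ s ∈ (S : Subgroup G), ∀ x : X, x ≠ c₀ → x ≠ c₁ → s • x ≠ c₀ ∧ s • x ≠ c₁ := by
    intro s hs x x0 x1
    have hnot : ¬ (s • x = c₀ ∨ s • x = c₁) := by
      intro e
      have e1 := (hzfix _).2 e
      rw [← mul_smul, ← hzc s hs, mul_smul] at e1
      rcases (hzfix x).1 (smul_left_cancel s e1) with e2 | e2
      · exact x0 e2
      · exact x1 e2
    exact not_or.1 hnot
  haveI := Fintype.ofFinite X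
  have hX10 : Fintype.card X = 10 := by
    rw [← Nat.card_eq_fintype_card, ← Subgroup.index_eq_card, hidx]
  obtain ⟨x, x0, x1⟩ : ∃ x : X, x ≠ c₀ ∧ x ≠ c₁ := by
    by_contra hc
    push Not at hc
    have hsub : (Finset.univ : Finset X) ⊆ {c₀, c₁} := fun y _ => by
      simp only [Finset.mem_insert, Finset.mem_singleton]
      by_cases hy : y = c₀
      · exact Or.inl hy
      · exact Or.inr (hc y hy)
    have := (Finset.card_le_card hsub).trans Finset.card_le_two
    rw [Finset.card_univ, hX10] at this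
    omega
  -- an involution outside the automizer fixing a further coset
  obtain ⟨w, hwS, hwH, hwx⟩ : ∃ w ∈ (S : Subgroup G), w ∉ H ∧ w • x = x := by
    have hc01 : c₀ ≠ c₁ := by
      intro e
      rw [hc₀, hc₁, QuotientGroup.eq, inv_one, one_mul] at e
      exact hvH (hSN v hv e)
    let f : H → {y : X // y ∉ ({c₀, c₁} : Finset X)} := fun q => ⟨(q : G) • x, by
      simp only [Finset.mem_insert, Finset.mem_singleton, not_or]
      exact hperm q (hHS q.2) x x0 x1⟩
    have hf : Function.Bijective f := by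
      rw [Nat.bijective_iff_injective_and_card]
      refine ⟨fun q q' e => Subtype.ext ?_, ?_⟩
      · have e' : (q : G) • x = (q' : G) • x := congrArg Subtype.val e
        exact (inv_mul_eq_one.1 (hfree _ (H.mul_mem (H.inv_mem q'.2) q.2) x x0 x1
          (by rw [mul_smul, e', inv_smul_smul]))).symm
      · rw [hH8, Nat.card_eq_fintype_card, Fintype.card_subtype_compl, Fintype.card_coe,
          Finset.card_pair hc01, hX10]
    obtain ⟨q, hq⟩ := hf.2 ⟨v • x, by
      simp only [Finset.mem_insert, Finset.mem_singleton, not_or]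
      exact hperm v hv x x0 x1⟩
    have hq' : (q : G) • x = v • x := congrArg Subtype.val hq
    refine ⟨(q : G)⁻¹ * v, (S : Subgroup G).mul_mem (inv_mem (hHS q.2)) hv, fun hm => hvH ?_, ?_⟩
    · have := H.mul_mem q.2 hm
      rwa [mul_inv_cancel_left] at this
    · rw [mul_smul, ← hq', inv_smul_smul]
  have hww : w * w = 1 :=
    hfree _ (hprod w hwS w hwS hwH hwH) x x0 x1 (by rw [mul_smul, hwx, hwx])
  have hw1 : w ≠ 1 := fun e => hwH (e ▸ H.one_mem)
  have hw2 : orderOf w = 2 := orderOf_eq_prime (by rw [pow_two, hww]) hw1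
  obtain ⟨g, rfl⟩ := QuotientGroup.mk_surjective x
  have hwg : g⁻¹ * w * g ∈ N := by
    rw [MulAction.Quotient.smul_mk, smul_eq_mul, QuotientGroup.eq,
      show (w * g)⁻¹ * g = (g⁻¹ * w * g)⁻¹ by group, inv_mem_iff] at hwx
    exact hwx
  obtain ⟨p, hp, ep⟩ := h.invol_conj P hab hP1 hwg (hHN hz) (by
    rw [show g⁻¹ * w * g = MulAut.conj g⁻¹ w by rw [MulAut.conj_apply, inv_inv],
      MulEquiv.orderOf_eq, hw2]) hz2
  set k := g * p with hk
  have hkx : k • c₀ = (g : X) := by
    rw [hc₀, MulAction.Quotient.smul_mk, smul_eq_mul, mul_one, QuotientGroup.eq, hk,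
      show (g * p)⁻¹ * g = p⁻¹ by group]
    exact N.inv_mem (Subgroup.le_normalizer hp)
  have hwfix : ∀ y : X, w • y = y → y = (g : X) ∨ y = k • c₁ := by
    intro y hy
    have e1 : z • (k⁻¹ • y) = k⁻¹ • y := by
      have ew : z = k⁻¹ * w * k := by
        calc z = p⁻¹ * (p * z * p⁻¹) * p := by group
          _ = _ := by rw [← ep, hk]; group
      rw [ew, ← mul_smul, mul_inv_cancel_right, mul_smul, hy]
    rcases (hzfix _).1 e1 with e | e
    · exact Or.inl (by rw [← hkx, ← e, smul_inv_smul])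
    · exact Or.inr (by rw [← e, smul_inv_smul])
  have hcent : ∀ q ∈ H, w * q = q * w → q = 1 ∨ q = z := by
    intro q hq e
    by_contra hcon
    rw [not_or] at hcon
    have hfix : ∀ r ∈ H, w * r = r * w → r ≠ 1 → r • (g : X) = k • c₁ := by
      intro r hr er r1
      rcases hwfix (r • (g : X)) (by rw [← mul_smul, er, mul_smul, hwx]) with e' | e'
      · exact absurd (hfree r hr _ x0 x1 e') r1
      · exact e'
    have e2 : q • (g : X) = z • (g : X) :=
      (hfix q hq e hcon.1).trans (hfix z hz (hzc w hwS) hz1).symm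
    exact hcon.2 (inv_mul_eq_one.1 (hfree _ (H.mul_mem (H.inv_mem hz) hq) _ x0 x1
      (by rw [mul_smul, e2, inv_smul_smul]))).symm
  have hwi : w⁻¹ = w := inv_eq_of_mul_eq_one_right hww
  have hzz : z * z = 1 := by rw [← pow_two, ← hz2, pow_orderOf_eq_one]
  obtain ⟨q, hq, hq1, hq2⟩ : ∃ q ∈ H, w * q * w⁻¹ ≠ q ∧ w * q * w⁻¹ ≠ q⁻¹ := by
    by_contra hc
    push Not at hc
    have hall : ∀ q ∈ H, w * q * w⁻¹ = q⁻¹ := by
      intro q hq
      by_cases e : w * q * w⁻¹ = q
      · rw [e]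
        rcases hcent q hq (mul_inv_eq_iff_eq_mul.1 e) with rfl | rfl
        · rw [inv_one]
        · exact (inv_eq_of_mul_eq_one_right hzz).symm
      · exact hc q hq e
    refine hnc fun a ha b hb => inv_injective ?_
    rw [← hall _ (H.mul_mem ha hb), mul_inv_rev b a, ← hall a ha, ← hall b hb]
    group
  have hwz : w * z * w⁻¹ = z := by rw [hzc w hwS, mul_inv_cancel_right]
  have qne1 : q ≠ 1 := fun e => hq1 (by rw [e, mul_one, mul_inv_cancel])
  have qnez : q ≠ z := fun e => hq1 (by rw [e, hwz])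
  set m := w * q * w⁻¹ * q with hm
  have hmH : m ∈ H := H.mul_mem (hnorm w hwS q hq) hq
  have hm1 : m ≠ 1 := fun e => hq2 (eq_inv_of_mul_eq_one_left e)
  have hmz : m ≠ z := by
    intro e
    apply hq1
    rw [eq_mul_inv_iff_mul_eq.2 e, ← hsq q hq qne1 qnez, mul_inv_cancel_right]
  have hwq2 : (w * q) ^ 2 = m := by rw [pow_two, hm, hwi, ← mul_assoc]
  have h4 : (w * q) ^ (2 * 2) = z := by rw [pow_mul, hwq2, pow_two, hsq m hmH hm1 hmz]
  have h8 : (w * q) ^ (2 * 2 * 2) = 1 := by rw [pow_mul, h4, pow_two, hzz]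
  have hd := orderOf_dvd_of_pow_eq_one h8
  have h5 := h (w * q)
  have hpos := orderOf_pos (w * q)
  have hne : ¬ orderOf (w * q) ∣ 4 := fun hd4 => hz1 (by
    rw [← h4]; exact orderOf_dvd_iff_pow_eq_one.1 hd4)
  interval_cases orderOf (w * q) <;> omega

end CfsgLib.Char.Epp
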