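import Cfsg.Agent.Lib.Char.Epp.SylowTI
import Cfsg.Agent.Lib.Char.NineTI.Descent

/-!
# Groups whose element orders are at most five: coordinates on a Sylow three subgroup of order nine
-/

set_option autoImplicit false
set_option linter.unusedSectionVars false

namespace CfsgLib.Char.Epp

open CfsgLib.Coprime CfsgLib.Char.NineTI

universe u

variable {G : Type u} [Group G] [Finite G]

/-- The coordinates given by two elements. -/
def el2 (a b : G) (v : V9) : G := a ^ v.1.val * b ^ v.2.val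

theorem pow_val_add {a : G} (h : a ^ 3 = 1) (i j : ZMod 3) : a ^ (i + j).val = a ^ i.val * a ^ j.val := by
  rw [ZMod.val_add, ← pow_eq_pow_mod _ h, pow_add]

theorem el2_add {a b : G} (ha : a ^ 3 = 1) (hb : b ^ 3 = 1) (hab : Commute a b) (v w : V9) :
    el2 a b (v + w) = el2 a b v * el2 a b w := by
  simp only [el2, Prod.fst_add, Prod.snd_add, pow_val_add ha, pow_val_add hb]
  rw [mul_assoc, mul_assoc, ← mul_assoc (a ^ w.1.val) (b ^ v.2.val), (hab.pow_pow w.1.val v.2.val).eq, mul_assoc]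

theorem el2_neg {a b : G} (ha : a ^ 3 = 1) (hb : b ^ 3 = 1) (hab : Commute a b) (v : V9) :
    el2 a b (-v) = (el2 a b v)⁻¹ :=
  eq_inv_of_mul_eq_one_left (by rw [← el2_add ha hb hab, neg_add_cancel]; simp [el2])

theorem zmod_three_val : ∀ j : ZMod 3, j ≠ 0 → j.val = 1 ∨ j.val = 2 := by decide

theorem el2_inj {a b : G} (ha : a ^ 3 = 1) (ha1 : a ≠ 1) (hb : b ^ 3 = 1) (hab : Commute a b)
    (hb1 : b ∉ Subgroup.zpowers a) : Function.Injective (el2 a b) := by
  haveI : Fact (Nat.Prime 3) := ⟨Nat.prime_three⟩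
  have key : ∀ v, el2 a b v = 1 → v = 0 := by
    rintro ⟨i, j⟩ e
    simp only [el2] at e
    have hj : j = 0 := by
      by_contra hj
      apply hb1
      have hm : b ^ j.val ∈ Subgroup.zpowers a := by
        rw [(inv_eq_of_mul_eq_one_right e).symm]
        exact inv_mem (pow_mem (Subgroup.mem_zpowers a) _)
      rcases zmod_three_val j hj with e' | e'
      · rwa [e', pow_one] at hm
      · have h2 := pow_mem hm 2
        rwa [e', ← pow_mul, show 2 * 2 = 3 + 1 from rfl, pow_succ, hb, one_mul] at h2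
    subst hj
    rw [ZMod.val_zero, pow_zero, mul_one] at e
    have hd := orderOf_dvd_of_pow_eq_one e
    rw [orderOf_eq_prime ha ha1] at hd
    have := ZMod.val_lt i
    exact Prod.ext ((ZMod.val_eq_zero i).1 (by omega)) rfl
  intro v w e
  refine sub_eq_zero.1 (key _ ?_)
  rw [sub_eq_add_neg, el2_add ha hb hab, el2_neg ha hb hab, e, mul_inv_cancel]

/-- The hypothesis on the Sylow three subgroup. -/
theorem Small5.nine_hyp (h : Small5 G) (P : Sylow 3 G) (h9 : Nat.card (P : Subgroup G) = 9)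
    (hab : ∀ a ∈ (P : Subgroup G), ∀ b ∈ (P : Subgroup G), a * b = b * a) : Hyp (P : Subgroup G) := by
  haveI : Fact (Nat.Prime 3) := ⟨Nat.prime_three⟩
  refine ⟨h9, fun a ha => h.pow_eq_one (Or.inl rfl) P.2 ha, fun s hs hs1 => h.cent_eq (Or.inl rfl) P hab hs hs1,
    fun y hy => ?_⟩
  by_cases hy1 : y = 1
  · exact ⟨1, by simp [hy1]⟩
  obtain ⟨Q, hQ⟩ := (IsPGroup.of_card (p := 3) (n := 1)
    (show Nat.card (Subgroup.zpowers y) = 3 ^ 1 by rw [Nat.card_zpowers, orderOf_eq_prime hy hy1, pow_one])).exists_le_sylow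
  obtain ⟨g, hg⟩ := MulAction.exists_smul_eq G Q P
  refine ⟨g, ?_⟩
  rw [← hg, Sylow.coe_subgroup_smul]
  exact ⟨y, hQ (Subgroup.mem_zpowers y), rfl⟩

/-- Representatives realizing distinct actions form a frame. -/
theorem exists_frame_of_act {S : Subgroup G} (hS : Nat.card S = 9)
    (hab : ∀ a ∈ S, ∀ b ∈ S, a * b = b * a) {e : ℕ} (el : V9 → G) (M : Fin e → V9 → V9) (rep : Fin e → G)
    (mem : ∀ v, el v ∈ S) (add : ∀ v w, el (v + w) = el v * el w) (inj : Function.Injective el)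
    (act : ∀ j v, rep j * el v * (rep j)⁻¹ = el (M j v))
    (repN : ∀ j, rep j ∈ Subgroup.normalizer (S : Set G)) (hM : ∀ i j, (∀ v, M i v = M j v) → i = j)
    (hidx : (S.subgroupOf (Subgroup.normalizer (S : Set G))).index = e) :
    ∃ F : Frame S e, F.M = M := by
  have hdist : ∀ i j, (rep i)⁻¹ * rep j ∈ S → i = j := by
    intro i j hs
    refine hM i j fun v => inj ?_
    rw [← act i, ← act j]
    calc rep i * el v * (rep i)⁻¹ =
          rep i * (el v * ((rep i)⁻¹ * rep j)) * ((rep i)⁻¹ * rep j)⁻¹ * (rep i)⁻¹ := by group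
      _ = rep i * (((rep i)⁻¹ * rep j) * el v) * ((rep i)⁻¹ * rep j)⁻¹ * (rep i)⁻¹ := by rw [hab _ (mem v) _ hs]
      _ = rep j * el v * (rep j)⁻¹ := by group
  have hbij : Function.Bijective fun j : Fin e =>
      ((⟨rep j, repN j⟩ : Subgroup.normalizer (S : Set G)) :
        Subgroup.normalizer (S : Set G) ⧸ S.subgroupOf (Subgroup.normalizer (S : Set G))) := by
    rw [Nat.bijective_iff_injective_and_card]
    refine ⟨fun i j e1 => hdist i j (Subgroup.mem_subgroupOf.1 (QuotientGroup.eq.1 e1)), ?_⟩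
    rw [Nat.card_fin, ← Subgroup.index_eq_card, hidx]
  refine ⟨⟨el, M, rep, mem, add, inj, act, repN, fun y hy => ?_, hdist⟩, rfl⟩
  obtain ⟨j, hj⟩ := hbij.2 ((⟨y, hy⟩ : Subgroup.normalizer (S : Set G)) :
    Subgroup.normalizer (S : Set G) ⧸ S.subgroupOf (Subgroup.normalizer (S : Set G)))
  exact ⟨j, Subgroup.mem_subgroupOf.1 (QuotientGroup.eq.1 hj)⟩

theorem Small5.exists_pair (h : Small5 G) (P : Sylow 3 G) (h9 : Nat.card (P : Subgroup G) = 9) {a : G}
    (ha : a ∈ (P : Subgroup G)) : ∃ b ∈ (P : Subgroup G), b ∉ Subgroup.zpowers a := by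
  by_contra hc
  push Not at hc
  have hd := Subgroup.card_dvd_of_le (show (P : Subgroup G) ≤ Subgroup.zpowers a from hc)
  rw [h9, Nat.card_zpowers] at hd
  have h3 := orderOf_dvd_of_pow_eq_one (h.pow_eq_one (Or.inl rfl) P.2 ha)
  exact absurd (hd.trans h3) (by norm_num)

theorem neg2_inj : ∀ i j : Fin 2, (∀ v, neg2 i v = neg2 j v) → i = j := by decide
theorem rot4_inj : ∀ i j : Fin 4, (∀ v, rot4 i v = rot4 j v) → i = j := by decide

/-- With an automizer of order two the Sylow subgroup of order nine is normal. -/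
theorem Small5.normal_of_nine_two (h : Small5 G) (P : Sylow 3 G) (h9 : Nat.card (P : Subgroup G) = 9)
    (hab : ∀ a ∈ (P : Subgroup G), ∀ b ∈ (P : Subgroup G), a * b = b * a)
    (he : ((P : Subgroup G).subgroupOf (Subgroup.normalizer ((P : Subgroup G) : Set G))).index = 2) :
    (P : Subgroup G).Normal := by
  haveI : Fact (Nat.Prime 2) := ⟨Nat.prime_two⟩
  haveI : Fact (Nat.Prime 3) := ⟨Nat.prime_three⟩
  have hP1 : (P : Subgroup G) ≠ ⊥ := fun e => by rw [e, Subgroup.card_bot] at h9; norm_num at h9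
  set N := Subgroup.normalizer ((P : Subgroup G) : Set G) with hN
  obtain ⟨z, hz⟩ := exists_prime_orderOf_dvd_card' (G := N) 2
    (he ▸ Subgroup.index_dvd_card ((P : Subgroup G).subgroupOf N))
  have hz2 : orderOf (z : G) = 2 := by rw [Subgroup.orderOf_coe, hz]
  have hinv := (h.fpf (Or.inl rfl) P.2 (A := Subgroup.zpowers (z : G)) (by
    rw [Nat.card_zpowers, hz2]; norm_num)).involution_inverts (Subgroup.zpowers_le.2 z.2)
    (Subgroup.mem_zpowers _) hz2
  obtain ⟨a, ha, ha1⟩ := (Subgroup.bot_or_exists_ne_one _).resolve_left hP1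
  obtain ⟨b, hb, hb1⟩ := h.exists_pair P h9 ha
  have a3 := h.pow_eq_one (Or.inl rfl) P.2 ha
  have b3 := h.pow_eq_one (Or.inl rfl) P.2 hb
  have hc : Commute a b := hab a ha b hb
  have hmem : ∀ v, el2 a b v ∈ (P : Subgroup G) := fun v =>
    (P : Subgroup G).mul_mem (pow_mem ha _) (pow_mem hb _)
  obtain ⟨F, hF⟩ := exists_frame_of_act h9 hab (el2 a b) neg2 ![1, (z : G)] hmem (el2_add a3 b3 hc)
    (el2_inj a3 ha1 b3 hc hb1)
    (fun j v => by
      fin_cases j
      · show 1 * el2 a b v * 1⁻¹ = el2 a b v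
        group
      · show (z : G) * el2 a b v * (z : G)⁻¹ = el2 a b (-v)
        rw [hinv _ (hmem v), el2_neg a3 b3 hc])
    (fun j => by
      fin_cases j
      · exact N.one_mem
      · exact z.2)
    neg2_inj he
  exact normal_of_two (h.nine_hyp P h9 hab) P rfl F hF

/-- With an automizer of order four the Sylow subgroup of order nine is normal or the group is alternating of
degree six. -/
theorem Small5.normal_or_six_of_nine_four (h : Small5 G) (P : Sylow 3 G) (h9 : Nat.card (P : Subgroup G) = 9)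
    (hab : ∀ a ∈ (P : Subgroup G), ∀ b ∈ (P : Subgroup G), a * b = b * a)
    (he : ((P : Subgroup G).subgroupOf (Subgroup.normalizer ((P : Subgroup G) : Set G))).index = 4) :
    (P : Subgroup G).Normal ∨ Nonempty (G ≃* alternatingGroup (Fin 6)) := by
  haveI : Fact (Nat.Prime 2) := ⟨Nat.prime_two⟩
  haveI : Fact (Nat.Prime 3) := ⟨Nat.prime_three⟩
  have hP1 : (P : Subgroup G) ≠ ⊥ := fun e => by rw [e, Subgroup.card_bot] at h9; norm_num at h9
  set N := Subgroup.normalizer ((P : Subgroup G) : Set G) with hN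
  obtain ⟨H, hHN, hH4⟩ : ∃ H : Subgroup G, H ≤ N ∧ Nat.card H = 4 := by
    obtain ⟨H₀, hH₀⟩ := Sylow.exists_subgroup_card_pow_prime 2 (G := N) (n := 2)
      (by rw [← ((P : Subgroup G).subgroupOf N).index_mul_card, he]; exact Dvd.intro _ rfl)
    exact ⟨H₀.map N.subtype, Subgroup.map_subtype_le _,
      by rw [Subgroup.card_map_of_injective N.subtype_injective, hH₀]; norm_num⟩
  have hfH := h.fpf (Or.inl rfl) P.2 (A := H) (by rw [hH4]; norm_num)
  obtain ⟨y, hy, hy2⟩ : ∃ y ∈ H, y ^ 2 ≠ 1 := by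
    by_contra hc
    push Not at hc
    obtain ⟨z, hz⟩ := exists_prime_orderOf_dvd_card' (G := H) 2 (by rw [hH4]; norm_num)
    have hle : H ≤ Subgroup.zpowers (z : G) := fun x hx => by
      by_cases hx1 : x = 1
      · exact hx1 ▸ Subgroup.one_mem _
      rw [hfH.unique_involution hHN hP1 z.2 hx (by rw [Subgroup.orderOf_coe, hz])
        (orderOf_eq_prime (hc x hx) hx1)]
      exact Subgroup.mem_zpowers _
    have hd := Subgroup.card_dvd_of_le hle
    rw [hH4, Nat.card_zpowers, Subgroup.orderOf_coe, hz] at hd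
    norm_num at hd
  have hy4 : orderOf (y ^ 2) = 2 := by
    refine orderOf_eq_prime ?_ hy2
    rw [← pow_mul, ← orderOf_dvd_iff_pow_eq_one, show 2 * 2 = Nat.card H by rw [hH4], ← Subgroup.orderOf_mk y hy]
    exact orderOf_dvd_natCard _
  have hinv := (h.fpf (Or.inl rfl) P.2 (A := Subgroup.zpowers (y ^ 2)) (by
    rw [Nat.card_zpowers, hy4]; norm_num)).involution_inverts (Subgroup.zpowers_le.2 (N.pow_mem (hHN hy) 2))
    (Subgroup.mem_zpowers _) hy4
  obtain ⟨a, ha, ha1⟩ := (Subgroup.bot_or_exists_ne_one _).resolve_left hP1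
  set b := y * a * y⁻¹ with hbdef
  have hb : b ∈ (P : Subgroup G) := (Subgroup.mem_normalizer_iff.1 (hHN hy) a).1 ha
  have a3 := h.pow_eq_one (Or.inl rfl) P.2 ha
  have b3 := h.pow_eq_one (Or.inl rfl) P.2 hb
  have hyb : y * b * y⁻¹ = a⁻¹ := by
    rw [hbdef, ← hinv a ha, pow_two]; group
  have hb1 : b ∉ Subgroup.zpowers a := by
    rintro ⟨i, hi⟩
    have e1 : y * b * y⁻¹ = b ^ i := by
      calc y * b * y⁻¹ = y * a ^ i * y⁻¹ := by rw [← hi]
        _ = _ := by rw [hbdef, conj_zpow]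
    rw [hyb, ← hi, ← zpow_mul] at e1
    have hd : (orderOf a : ℤ) ∣ i * i - (-1) := by
      rw [orderOf_dvd_iff_zpow_eq_one, zpow_sub, ← e1, zpow_neg_one, mul_inv_cancel]
    rw [orderOf_eq_prime a3 ha1] at hd
    obtain ⟨q, r, hr, rfl⟩ : ∃ q r : ℤ, (r = 0 ∨ r = 1 ∨ r = 2) ∧ i = 3 * q + r :=
      ⟨i / 3, i % 3, by omega, by omega⟩
    rw [show (3 * q + r) * (3 * q + r) - -1 = 3 * (3 * q * q + 2 * q * r) + (r * r + 1) by ring,
      show ((3 : ℕ) : ℤ) = 3 from rfl, Int.dvd_add_right (dvd_mul_right _ _)] at hd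
    rcases hr with rfl | rfl | rfl <;> norm_num at hd
  have hc : Commute a b := hab a ha b hb
  have hmem : ∀ v, el2 a b v ∈ (P : Subgroup G) := fun v =>
    (P : Subgroup G).mul_mem (pow_mem ha _) (pow_mem hb _)
  have h1 : ∀ v : V9, y * el2 a b v * y⁻¹ = el2 a b (-v.2, v.1) := by
    rintro ⟨i, j⟩
    have ea : el2 a b (-j, 0) = (a⁻¹) ^ j.val := by
      rw [show ((-j, 0) : V9) = -(j, 0) by simp, el2_neg a3 b3 hc]
      simp [el2]
    have eb : el2 a b (0, i) = b ^ i.val := by simp [el2]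
    rw [show ((-j, i) : V9) = (0, i) + (-j, 0) by simp, el2_add a3 b3 hc, eb, ea]
    calc y * el2 a b (i, j) * y⁻¹ = (y * a ^ i.val * y⁻¹) * (y * b ^ j.val * y⁻¹) := by simp only [el2]; group
      _ = b ^ i.val * (a⁻¹) ^ j.val := by rw [← conj_pow, ← conj_pow, ← hbdef, hyb]
  obtain ⟨F, hF⟩ := exists_frame_of_act h9 hab (el2 a b) rot4 ![1, y, y ^ 2, y ^ 3] hmem (el2_add a3 b3 hc)
    (el2_inj a3 ha1 b3 hc hb1)
    (fun j v => by
      fin_cases j
      · show 1 * el2 a b v * 1⁻¹ = el2 a b v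
        group
      · exact h1 v
      · show y ^ 2 * el2 a b v * (y ^ 2)⁻¹ = el2 a b (-v.1, -v.2)
        rw [show y ^ 2 * el2 a b v * (y ^ 2)⁻¹ = y * (y * el2 a b v * y⁻¹) * y⁻¹ by rw [pow_two]; group, h1, h1]
      · show y ^ 3 * el2 a b v * (y ^ 3)⁻¹ = el2 a b (v.2, -v.1)
        rw [show y ^ 3 * el2 a b v * (y ^ 3)⁻¹ = y * (y * (y * el2 a b v * y⁻¹) * y⁻¹) * y⁻¹ by
          rw [pow_succ, pow_two]; group, h1, h1, h1, neg_neg])
    (fun j => by
      fin_cases j
      · exact N.one_mem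
      · exact hHN hy
      · exact N.pow_mem (hHN hy) 2
      · exact N.pow_mem (hHN hy) 3)
    rot4_inj he
  exact normal_or_alt_six_of_four (h.nine_hyp P h9 hab) P rfl F hF

end CfsgLib.Char.Epp
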