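import Cfsg.Agent.Lib.Coprime.FpfAction

/-!
# Groups whose element orders are at most five: local structure

For a prime `p` equal to three or five, centralizers of elements of order `p` are `p`-groups of exponent `p`,
the Sylow `p`-subgroup of the normalizer of a non-trivial `p`-subgroup is normal, and the Sylow
`p`-subgroups meet trivially.
-/

set_option autoImplicit false
set_option linter.unusedSectionVars false

namespace CfsgLib.Char.Epp

open CfsgLib.Coprime

universe u

variable {G : Type u} [Group G]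

/-- All element orders are at most five. -/
def Small5 (G : Type u) [Group G] : Prop := ∀ g : G, orderOf g ≤ 5

theorem Small5.sub (h : Small5 G) (K : Subgroup G) : Small5 K := fun k => by
  rw [← Subgroup.orderOf_coe]; exact h k

variable [Finite G]

theorem Small5.order_cases (h : Small5 G) (g : G) :
    orderOf g = 1 ∨ orderOf g = 2 ∨ orderOf g = 3 ∨ orderOf g = 4 ∨ orderOf g = 5 := by
  have h1 := orderOf_pos g
  have h2 := h g
  omega

theorem Small5.prime_dvd (h : Small5 G) {q : ℕ} (hq : q.Prime) (hd : q ∣ Nat.card G) :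
    q = 2 ∨ q = 3 ∨ q = 5 := by
  haveI : Fact q.Prime := ⟨hq⟩
  obtain ⟨x, hx⟩ := exists_prime_orderOf_dvd_card' q hd
  have h5 := h x
  rw [hx] at h5
  have h2 := hq.two_le
  by_contra hc
  have : q = 4 := by omega
  subst this
  norm_num at hq

theorem Small5.comm_order (h : Small5 G) {p : ℕ} (hp : p = 3 ∨ p = 5) {x y : G} (hx : orderOf x = p)
    (hc : Commute x y) : orderOf y = 1 ∨ orderOf y = p := by
  by_cases hcp : (orderOf x).Coprime (orderOf y)
  · have e := hc.orderOf_mul_eq_mul_orderOf_of_coprime hcp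
    have h1 := h (x * y)
    rw [e, hx] at h1
    have h2 := orderOf_pos y
    rcases hp with rfl | rfl <;> left <;> omega
  · rw [hx] at hcp
    rcases h.order_cases y with e | e | e | e | e <;> rcases hp with rfl | rfl <;> simp_all +decide

theorem Small5.pow_eq_one (h : Small5 G) {p : ℕ} (hp : p = 3 ∨ p = 5) {P : Subgroup G} (hP : IsPGroup p P)
    {a : G} (ha : a ∈ P) : a ^ p = 1 := by
  haveI : Fact p.Prime := ⟨by rcases hp with rfl | rfl <;> norm_num⟩
  obtain ⟨k, hk⟩ := IsPGroup.iff_orderOf.1 hP ⟨a, ha⟩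
  rw [← Subgroup.orderOf_coe] at hk
  have h5 := h a
  rw [hk] at h5
  have hk1 : k ≤ 1 := by
    by_contra hc
    have := Nat.pow_le_pow_right (show 0 < p by rcases hp with rfl | rfl <;> norm_num) (by omega : 2 ≤ k)
    rcases hp with rfl | rfl <;> norm_num at this <;> omega
  rw [← orderOf_dvd_iff_pow_eq_one]
  rw [hk]
  exact (pow_dvd_pow p hk1).trans (by rw [pow_one])

theorem Small5.orderOf_eq (h : Small5 G) {p : ℕ} (hp : p = 3 ∨ p = 5) {P : Subgroup G} (hP : IsPGroup p P)
    {a : G} (ha : a ∈ P) (ha1 : a ≠ 1) : orderOf a = p := by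
  haveI : Fact p.Prime := ⟨by rcases hp with rfl | rfl <;> norm_num⟩
  exact orderOf_eq_prime (h.pow_eq_one hp hP ha) ha1

theorem Small5.pow_eq_one_of_cent (h : Small5 G) {p : ℕ} (hp : p = 3 ∨ p = 5) {x y : G} (hx : orderOf x = p)
    (hc : y ∈ Subgroup.centralizer ({x} : Set G)) : y ^ p = 1 := by
  rw [← orderOf_dvd_iff_pow_eq_one]
  rcases h.comm_order hp hx (Subgroup.mem_centralizer_singleton_iff.1 hc).symm with e | e <;> simp [e]

theorem Small5.isPGroup_cent (h : Small5 G) {p : ℕ} (hp : p = 3 ∨ p = 5) {x : G} (hx : orderOf x = p) :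
    IsPGroup p (Subgroup.centralizer ({x} : Set G)) :=
  fun y => ⟨1, Subtype.ext (by rw [pow_one]; exact h.pow_eq_one_of_cent hp hx y.2)⟩

/-- Groups of order prime to `p` normalizing a `p`-group act fixed-point-freely. -/
theorem Small5.fpf (h : Small5 G) {p : ℕ} (hp : p = 3 ∨ p = 5) {A D : Subgroup G} (hD : IsPGroup p D)
    (hA : ¬ p ∣ Nat.card A) : IsFpfOn A D := by
  intro a ha ha1
  rw [Subgroup.eq_bot_iff_forall]
  rintro d ⟨hd, hdc⟩
  by_contra hd1
  have ho := h.orderOf_eq hp hD hd hd1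
  rcases h.comm_order hp ho (Subgroup.mem_centralizer_singleton_iff.1 hdc) with e | e
  · exact ha1 (orderOf_eq_one_iff.1 e)
  · exact hA (by rw [← e, ← Subgroup.orderOf_mk a ha]; exact orderOf_dvd_natCard _)

/-- A group of exponent four with at most one involution has order at most eight. -/
theorem card_le_eight (S : Subgroup G) (hexp : ∀ s ∈ S, s ^ 4 = 1)
    (huniq : ∀ s ∈ S, ∀ t ∈ S, orderOf s = 2 → orderOf t = 2 → s = t) : Nat.card S ≤ 8 := by
  classical
  by_cases hS : ∀ s ∈ S, s = 1
  · rw [(Subgroup.eq_bot_iff_forall S).2 hS, Subgroup.card_bot]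
    norm_num
  push Not at hS
  obtain ⟨s₀, hs₀, hs₀1⟩ := hS
  haveI : Fact (Nat.Prime 2) := ⟨Nat.prime_two⟩
  obtain ⟨z, hz, hz2, hz1⟩ : ∃ z ∈ S, z ^ 2 = 1 ∧ z ≠ 1 := by
    by_cases e : s₀ ^ 2 = 1
    · exact ⟨s₀, hs₀, e, hs₀1⟩
    · exact ⟨s₀ ^ 2, S.pow_mem hs₀ 2, by rw [← pow_mul]; exact hexp _ hs₀, e⟩
  have hzz : z * z = 1 := by rw [← pow_two, hz2]
  have hsmall : ∀ s ∈ S, s ^ 2 = 1 → s = 1 ∨ s = z := fun s hs e => by
    by_cases e1 : s = 1
    · exact Or.inl e1
    · exact Or.inr (huniq s hs z hz (orderOf_eq_prime e e1) (orderOf_eq_prime hz2 hz1))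
  have hsq : ∀ s ∈ S, s ≠ 1 → s ≠ z → s * s = z := fun s hs h1 h2 => by
    rcases hsmall (s ^ 2) (S.pow_mem hs 2) (by rw [← pow_mul]; exact hexp _ hs) with e | e
    · rcases hsmall s hs e with e' | e'
      · exact absurd e' h1
      · exact absurd e' h2
    · rw [← pow_two]; exact e
  have hzc : ∀ s ∈ S, z * s = s * z := fun s hs => by
    by_cases h1 : s = 1
    · simp [h1]
    by_cases h2 : s = z
    · rw [h2]
    rw [← hsq s hs h1 h2, mul_assoc]
  have hinv : ∀ s ∈ S, s ≠ 1 → s ≠ z → s⁻¹ = z * s := fun s hs h1 h2 => by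
    refine inv_eq_of_mul_eq_one_right ?_
    rw [hzc s hs, ← mul_assoc, hsq s hs h1 h2, hzz]
  have hanti : ∀ s ∈ S, ∀ t ∈ S, s ≠ 1 → s ≠ z → t ≠ 1 → t ≠ z → s * t ≠ 1 → s * t ≠ z →
      t * s = z * (s * t) := by
    intro s hs t ht a1 a2 b1 b2 c1 c2
    calc t * s = s⁻¹ * ((s * t) * (s * t)) * t⁻¹ := by group
      _ = (z * s) * z * (z * t) := by rw [hsq _ (S.mul_mem hs ht) c1 c2, hinv s hs a1 a2, hinv t ht b1 b2]
      _ = z * s * (z * z) * t := by group
      _ = z * (s * t) := by rw [hzz, mul_one, mul_assoc]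
  by_contra hcard
  have hout : ∀ l : List G, l.length ≤ 8 → ∃ s ∈ S, s ∉ l := by
    intro l hl
    by_contra hc
    push Not at hc
    refine hcard ?_
    calc Nat.card S ≤ Nat.card {x : G // x ∈ l.toFinset} :=
          Nat.card_le_card_of_injective (fun s : S => ⟨s.1, List.mem_toFinset.2 (hc s.1 s.2)⟩)
            fun s t e => Subtype.ext (congrArg Subtype.val e :)
      _ ≤ 8 := by
          rw [Nat.card_eq_fintype_card, Fintype.card_coe]
          exact (List.toFinset_card_le l).trans hl
  obtain ⟨a, ha, hal⟩ := hout [1, z] (by simp)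
  simp only [List.mem_cons, List.not_mem_nil, or_false, not_or] at hal
  obtain ⟨b, hb, hbl⟩ := hout [1, z, a, z * a] (by simp)
  simp only [List.mem_cons, List.not_mem_nil, or_false, not_or] at hbl
  obtain ⟨c, hc, hcl⟩ := hout [1, z, a, z * a, b, z * b, a * b, z * (a * b)] (by simp)
  simp only [List.mem_cons, List.not_mem_nil, or_false, not_or] at hcl
  have hprod : ∀ s ∈ S, s ≠ 1 → s ≠ z → ∀ t, t ≠ s → t ≠ z * s → s * t ≠ 1 ∧ s * t ≠ z := by
    intro s hs s1 s2 t t1 t2
    constructor
    · intro e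
      exact t2 (by rw [← hinv s hs s1 s2]; exact (inv_eq_of_mul_eq_one_right e).symm)
    · intro e
      exact t1 (mul_left_cancel (e.trans (hsq s hs s1 s2).symm))
  obtain ⟨ab1, ab2⟩ := hprod a ha hal.1 hal.2 b hbl.2.2.1 hbl.2.2.2
  obtain ⟨ac1, ac2⟩ := hprod a ha hal.1 hal.2 c hcl.2.2.1 hcl.2.2.2.1
  obtain ⟨bc1, bc2⟩ := hprod b hb hbl.1 hbl.2.1 c hcl.2.2.2.2.1 hcl.2.2.2.2.2.1
  obtain ⟨pc1, pc2⟩ := hprod _ (S.mul_mem ha hb) ab1 ab2 c hcl.2.2.2.2.2.2.1 hcl.2.2.2.2.2.2.2
  have e1 := hanti a ha c hc hal.1 hal.2 hcl.1 hcl.2.1 ac1 ac2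
  have e2 := hanti b hb c hc hbl.1 hbl.2.1 hcl.1 hcl.2.1 bc1 bc2
  have e3 := hanti _ (S.mul_mem ha hb) c hc ab1 ab2 hcl.1 hcl.2.1 pc1 pc2
  have e4 : c * (a * b) = a * b * c := by
    calc c * (a * b) = c * a * b := (mul_assoc _ _ _).symm
      _ = z * a * (c * b) := by rw [e1]; group
      _ = z * (a * z) * (b * c) := by rw [e2]; group
      _ = (z * z) * a * (b * c) := by rw [← hzc a ha, ← mul_assoc z z a]
      _ = a * b * c := by rw [hzz, one_mul, ← mul_assoc]
  rw [e4] at e3
  exact hz1 (right_eq_mul.1 e3)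

/-- The Sylow subgroups of the normalizer of a non-trivial `p`-subgroup are normal, of index `2`, `4`, `8`,
`1` or the other odd prime. -/
theorem Small5.local_normal (h : Small5 G) {p : ℕ} [Fact p.Prime] (hp : p = 3 ∨ p = 5) {D K : Subgroup G}
    (hD : IsPGroup p D) (hD1 : D ≠ ⊥) (hK : K ≤ Subgroup.normalizer (D : Set G)) (Q : Sylow p K) :
    (Q : Subgroup K).Normal ∧
      (((Q : Subgroup K).index = 1 ∨ (Q : Subgroup K).index = 8 - p) ∨
        (((Q : Subgroup K).index = 2 ∨ (Q : Subgroup K).index = 4 ∨ (Q : Subgroup K).index = 8) ∧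
          ∀ a ∈ D, ∀ b ∈ D, a * b = b * a)) := by
  classical
  have hpp : p.Prime := Fact.out
  haveI : Fact (Nat.Prime 2) := ⟨Nat.prime_two⟩
  have hidx0 : (Q : Subgroup K).index ≠ 0 := Subgroup.index_ne_zero_of_finite
  have hpd : ¬ p ∣ (Q : Subgroup K).index := Q.not_dvd_index
  have hprimes : ∀ r : ℕ, r.Prime → r ∣ (Q : Subgroup K).index → r ≠ p ∧ (r = 2 ∨ r = 8 - p) := by
    intro r hr hrd
    have hne : r ≠ p := fun e => hpd (e ▸ hrd)
    refine ⟨hne, ?_⟩
    rcases (h.sub K).prime_dvd hr (hrd.trans (Subgroup.index_dvd_card _)) with e | e | e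
    · exact Or.inl e
    all_goals
      refine Or.inr ?_
      subst e
      rcases hp with rfl | rfl <;> omega
  obtain ⟨d, hd, hd1⟩ := (Subgroup.bot_or_exists_ne_one D).resolve_left hD1
  by_cases h2 : 2 ∣ (Q : Subgroup K).index
  · -- an involution inverts
    obtain ⟨z, hz⟩ := exists_prime_orderOf_dvd_card' 2 (h2.trans (Subgroup.index_dvd_card (Q : Subgroup K)))
    have hzG : orderOf (z : G) = 2 := by rw [Subgroup.orderOf_coe, hz]
    have hzle : Subgroup.zpowers (z : G) ≤ K := Subgroup.zpowers_le.2 z.2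
    have hzfpf : IsFpfOn (Subgroup.zpowers (z : G)) D := h.fpf hp hD (by
      rw [Nat.card_zpowers, hzG]
      intro hd'
      have := Nat.le_of_dvd two_pos hd'
      rcases hp with rfl | rfl <;> omega)
    have hinv := hzfpf.involution_inverts (hzle.trans hK) (Subgroup.mem_zpowers _) hzG
    have hab : ∀ a ∈ D, ∀ b ∈ D, a * b = b * a := fun a ha b hb => inv_injective (by
      rw [← hinv _ (D.mul_mem ha hb), mul_inv_rev b a, ← hinv a ha, ← hinv b hb]
      group)
    set C : Subgroup K := (Subgroup.centralizer (D : Set G)).subgroupOf K with hC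
    have hCn : C.Normal := ⟨fun c hc k => by
      rw [hC, Subgroup.mem_subgroupOf, Subgroup.mem_centralizer_iff] at hc ⊢
      intro v hv
      have hv' : (k : G)⁻¹ * v * k ∈ D := (Subgroup.mem_normalizer_iff''.1 (hK k.2) v).1 hv
      show v * ((k : G) * c * (k : G)⁻¹) = (k : G) * c * (k : G)⁻¹ * v
      calc v * ((k : G) * c * (k : G)⁻¹) = (k : G) * (((k : G)⁻¹ * v * k) * c) * (k : G)⁻¹ := by group
        _ = (k : G) * ((c : G) * ((k : G)⁻¹ * v * k)) * (k : G)⁻¹ := by rw [hc _ hv']
        _ = _ := by group⟩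
    haveI := hCn
    have hCp : IsPGroup p C := fun c => ⟨1, Subtype.ext (Subtype.ext (by
      rw [pow_one]
      refine h.pow_eq_one_of_cent hp (h.orderOf_eq hp hD hd hd1) (Subgroup.mem_centralizer_singleton_iff.2 ?_)
      exact ((Subgroup.mem_centralizer_iff.1 (Subgroup.mem_subgroupOf.1 c.2)) d hd).symm))⟩
    have hzC : z ∉ C := by
      intro hm
      have e := (Subgroup.mem_centralizer_iff.1 (Subgroup.mem_subgroupOf.1 hm)) d hd
      have e' := hinv d hd
      rw [← e, mul_inv_cancel_right] at e'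
      have : d ^ 2 = 1 := by rw [pow_two]; nth_rewrite 1 [e']; rw [inv_mul_cancel]
      have h2' := orderOf_dvd_of_pow_eq_one this
      rw [h.orderOf_eq hp hD hd hd1] at h2'
      have := Nat.le_of_dvd two_pos h2'
      rcases hp with rfl | rfl <;> omega
    have hcomm : ∀ k : K, Commute (QuotientGroup.mk' C z) (QuotientGroup.mk' C k) := by
      intro k
      show QuotientGroup.mk' C z * QuotientGroup.mk' C k = QuotientGroup.mk' C k * QuotientGroup.mk' C z
      rw [← map_mul, ← map_mul, QuotientGroup.mk'_eq_mk']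
      refine ⟨(z * k)⁻¹ * (k * z), ?_, mul_inv_cancel_left _ _⟩
      rw [hC, Subgroup.mem_subgroupOf, Subgroup.mem_centralizer_iff]
      intro v hv
      have hkv : (k : G) * v * (k : G)⁻¹ ∈ D := (Subgroup.mem_normalizer_iff.1 (hK k.2) v).1 hv
      have hzv : (z : G) * v * (z : G)⁻¹ = v⁻¹ := hinv v hv
      have e : ((z : G) * k)⁻¹ * ((k : G) * z) * v * (((z : G) * k)⁻¹ * ((k : G) * z))⁻¹ = v := by
        calc _ = (k : G)⁻¹ * (z : G)⁻¹ * ((k : G) * ((z : G) * v * (z : G)⁻¹) * (k : G)⁻¹) * (z : G) * k := by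
              group
          _ = (k : G)⁻¹ * (z : G)⁻¹ * ((k : G) * v * (k : G)⁻¹)⁻¹ * (z : G) * k := by rw [hzv]; group
          _ = v := by rw [← hinv _ hkv]; group
      exact (mul_inv_eq_iff_eq_mul.1 e).symm
    have hodd : ∀ k : K, (orderOf k = 3 ∨ orderOf k = 5) → k ∈ C := by
      intro k hk
      by_contra hkC
      have hk1 : QuotientGroup.mk' C k ≠ 1 := fun e => hkC ((QuotientGroup.eq_one_iff k).1 e)
      have hz1 : QuotientGroup.mk' C z ≠ 1 := fun e => hzC ((QuotientGroup.eq_one_iff z).1 e)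
      have ok : orderOf (QuotientGroup.mk' C k) = orderOf k := by
        have hd' := orderOf_map_dvd (QuotientGroup.mk' C) k
        exact ((Nat.dvd_prime (by rcases hk with e | e <;> rw [e] <;> norm_num)).1 hd').resolve_left
          (fun e => hk1 (orderOf_eq_one_iff.1 e))
      have oz : orderOf (QuotientGroup.mk' C z) = 2 := by
        have hd' := orderOf_map_dvd (QuotientGroup.mk' C) z
        rw [hz] at hd'
        exact ((Nat.dvd_prime Nat.prime_two).1 hd').resolve_left (fun e => hz1 (orderOf_eq_one_iff.1 e))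
      have e := (hcomm k).orderOf_mul_eq_mul_orderOf_of_coprime (by
        rw [oz, ok]; rcases hk with e | e <;> rw [e] <;> norm_num)
      rw [oz, ok, ← map_mul] at e
      have hle := Nat.le_of_dvd (orderOf_pos _) (orderOf_map_dvd (QuotientGroup.mk' C) (z * k))
      have h5 := h.sub K (z * k)
      rcases hk with e1 | e1 <;> omega
    have hQC : (Q : Subgroup K) ≤ C := by
      intro k hk
      by_cases hk1 : k = 1
      · exact hk1 ▸ C.one_mem
      · have := (h.sub K).orderOf_eq hp Q.2 hk hk1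
        exact hodd k (by rw [this]; exact hp)
    have hQeq : C = (Q : Subgroup K) := Q.3 hCp hQC
    refine ⟨hQeq ▸ hCn, Or.inr ⟨?_, hab⟩⟩
    -- the index is a power of two
    obtain ⟨S⟩ : Nonempty (Sylow 2 K) := inferInstance
    have honly : ∀ r : ℕ, r.Prime → r ∣ (Q : Subgroup K).index → r = 2 := by
      intro r hr hrd
      obtain ⟨hne, e | e⟩ := hprimes r hr hrd
      · exact e
      exfalso
      haveI : Fact r.Prime := ⟨hr⟩
      obtain ⟨k, hk⟩ := exists_prime_orderOf_dvd_card' r (hrd.trans (Subgroup.index_dvd_card _))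
      have hkQ : k ∈ (Q : Subgroup K) := hQeq ▸ hodd k (by rcases hp with rfl | rfl <;> rw [hk, e] <;> simp)
      have hk1 : k ≠ 1 := fun e1 => by rw [e1, orderOf_one] at hk; exact hr.ne_one hk.symm
      have := (h.sub K).orderOf_eq hp Q.2 hkQ hk1
      exact hne (hk.symm.trans this)
    obtain ⟨m, hm⟩ : ∃ m, (Q : Subgroup K).index = 2 ^ m :=
      ⟨_, Nat.eq_prime_pow_of_unique_prime_dvd hidx0 fun hr hrd => honly _ hr hrd⟩
    have hScard : Nat.card (S : Subgroup K) = 2 ^ m := by
      have hmul := (Q : Subgroup K).card_mul_index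
      obtain ⟨a, ha⟩ := IsPGroup.iff_card.1 Q.2
      rw [S.card_eq_multiplicity, ← hmul, hm, ha,
        Nat.factorization_mul (pow_ne_zero _ hpp.ne_zero) (by positivity), Finsupp.add_apply,
        hpp.factorization_pow, Nat.prime_two.factorization_pow, Finsupp.single_eq_same,
        Finsupp.single_eq_of_ne (by rcases hp with rfl | rfl <;> norm_num), zero_add]
    set S' := (S : Subgroup K).map K.subtype with hS'
    have hS'card : Nat.card S' = 2 ^ m := by
      rw [hS', Subgroup.card_map_of_injective K.subtype_injective, hScard]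
    have hS'K : S' ≤ K := Subgroup.map_subtype_le _
    have hS'fpf : IsFpfOn S' D := h.fpf hp hD (by
      rw [hS'card]
      intro hd'
      have := (Nat.prime_dvd_prime_iff_eq hpp Nat.prime_two).1 (hpp.dvd_of_dvd_pow hd')
      rcases hp with rfl | rfl <;> omega)
    have hle8 : Nat.card S' ≤ 8 := by
      refine card_le_eight S' (fun s hs => ?_) fun s hs t ht os ot =>
        hS'fpf.unique_involution (hS'K.trans hK) hD1 ht hs ot os
      obtain ⟨j, hj⟩ := (Nat.dvd_prime_pow Nat.prime_two).1
        (show orderOf s ∣ 2 ^ m by rw [← hS'card, ← Subgroup.orderOf_mk s hs]; exact orderOf_dvd_natCard _)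
      rw [← orderOf_dvd_iff_pow_eq_one]
      rcases h.order_cases s with e | e | e | e | e
      · rw [e]; norm_num
      · rw [e]; norm_num
      · exact absurd ((Nat.prime_dvd_prime_iff_eq Nat.prime_three Nat.prime_two).1
          (Nat.prime_three.dvd_of_dvd_pow (n := j) (by rw [← hj.2, e]))) (by norm_num)
      · rw [e]
      · exact absurd ((Nat.prime_dvd_prime_iff_eq (by norm_num) Nat.prime_two).1
          ((show Nat.Prime 5 by norm_num).dvd_of_dvd_pow (n := j) (by rw [← hj.2, e]))) (by norm_num)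
    rw [hS'card] at hle8
    rw [hm] at h2 ⊢
    have hm3 : m ≤ 3 := by
      by_contra hc
      have := Nat.pow_le_pow_right two_pos (by omega : 4 ≤ m)
      omega
    interval_cases m <;> simp_all
  · -- odd order
    have honly : ∀ r : ℕ, r.Prime → r ∣ (Q : Subgroup K).index → r = 8 - p := by
      intro r hr hrd
      obtain ⟨-, e | e⟩ := hprimes r hr hrd
      · exact absurd (e ▸ hrd) h2
      · exact e
    set q := 8 - p with hq
    haveI : Fact q.Prime := ⟨by rcases hp with rfl | rfl <;> norm_num [hq]⟩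
    have hqp : q.Prime := Fact.out
    have hqne : q ≠ p := by rcases hp with rfl | rfl <;> norm_num [hq]
    obtain ⟨m, hm⟩ : ∃ m, (Q : Subgroup K).index = q ^ m :=
      ⟨_, Nat.eq_prime_pow_of_unique_prime_dvd hidx0 fun hr hrd => honly _ hr hrd⟩
    obtain ⟨R⟩ : Nonempty (Sylow q K) := inferInstance
    have hRcard : Nat.card (R : Subgroup K) = q ^ m := by
      have hmul := (Q : Subgroup K).card_mul_index
      obtain ⟨a, ha⟩ := IsPGroup.iff_card.1 Q.2
      rw [R.card_eq_multiplicity, ← hmul, hm, ha,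
        Nat.factorization_mul (pow_ne_zero _ hpp.ne_zero) (pow_ne_zero _ hqp.ne_zero), Finsupp.add_apply,
        hpp.factorization_pow, hqp.factorization_pow, Finsupp.single_eq_same,
        Finsupp.single_eq_of_ne hqne, zero_add]
    have hm1 : m ≤ 1 := by
      by_contra hc
      haveI : Nontrivial (R : Subgroup K) := by
        rw [← Finite.one_lt_card_iff_nontrivial, hRcard]
        exact Nat.one_lt_pow (by omega) hqp.one_lt
      haveI := R.2.center_nontrivial
      obtain ⟨⟨a, ha⟩, ha1⟩ := exists_ne (1 : Subgroup.center (R : Subgroup K))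
      have hq' : q = 3 ∨ q = 5 := by rcases hp with rfl | rfl <;> norm_num [hq]
      have hexp : ∀ k ∈ (R : Subgroup K), k ^ q = 1 := fun k hk => (h.sub K).pow_eq_one hq' R.2 hk
      obtain ⟨b, hb, hbn⟩ : ∃ b : K, b ∈ (R : Subgroup K) ∧ b ∉ Subgroup.zpowers (a : K) := by
        by_contra hcb
        push Not at hcb
        have hle := Subgroup.card_dvd_of_le (show (R : Subgroup K) ≤ Subgroup.zpowers (a : K) from hcb)
        rw [hRcard, Nat.card_zpowers] at hle
        have := Nat.le_of_dvd hqp.pos (hle.trans (orderOf_dvd_of_pow_eq_one (hexp _ a.2)))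
        exact absurd this (not_le.2 (lt_self_pow₀ hqp.one_lt (by omega)))
      set A := Subgroup.closure ({((a : K) : G), (b : G)} : Set G) with hA
      haveI : IsMulCommutative A := Subgroup.isMulCommutative_closure (by
        have e : ((a : K) : G) * (b : G) = (b : G) * ((a : K) : G) :=
          congrArg (fun w : (R : Subgroup K) => ((w : K) : G)) (Subgroup.mem_center_iff.1 ha ⟨b, hb⟩).symm
        rintro x (rfl | rfl) y (rfl | rfl)
        · rfl
        · exact e
        · exact e.symm
        · rfl)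
      have hAR : A ≤ (R : Subgroup K).map K.subtype := (Subgroup.closure_le _).2 (by
        rintro x (rfl | rfl)
        · exact Subgroup.mem_map_of_mem _ a.2
        · exact Subgroup.mem_map_of_mem _ hb)
      have hAK : A ≤ K := hAR.trans (Subgroup.map_subtype_le _)
      have hdvd : Nat.card A ∣ q ^ m := by
        have e : Nat.card ((R : Subgroup K).map K.subtype) = q ^ m := by
          rw [Subgroup.card_map_of_injective K.subtype_injective, hRcard]
        rw [← e]
        exact Subgroup.card_dvd_of_le hAR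
      have hfA : IsFpfOn A D := h.fpf hp hD fun hd' =>
        hqne ((Nat.prime_dvd_prime_iff_eq hpp hqp).1 (hpp.dvd_of_dvd_pow (hd'.trans hdvd))).symm
      haveI := hfA.isCyclic (hAK.trans hK) hD1
      obtain ⟨c, hcA⟩ := IsCyclic.exists_generator (α := A)
      have hc1 : orderOf c ∣ q := by
        refine orderOf_dvd_of_pow_eq_one (Subtype.ext ?_)
        obtain ⟨k, hk, e⟩ := hAR c.2
        rw [SubgroupClass.coe_pow, ← e, ← map_pow, hexp k hk, map_one]
        rfl
      have hcardA : Nat.card A ∣ q := by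
        rw [← orderOf_eq_card_of_forall_mem_zpowers hcA]; exact hc1
      have hza : Subgroup.zpowers ((a : K) : G) = A := by
        refine Subgroup.eq_of_le_of_card_ge (Subgroup.zpowers_le.2 (Subgroup.subset_closure (Or.inl rfl))) ?_
        rw [Nat.card_zpowers, Subgroup.orderOf_coe]
        have ha' : (a : K) ≠ 1 := fun e => ha1 (Subtype.ext (Subtype.ext e))
        rw [orderOf_eq_prime (hexp _ a.2) ha']
        exact Nat.le_of_dvd hqp.pos hcardA
      have hbA : (b : G) ∈ Subgroup.zpowers ((a : K) : G) :=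
        hza ▸ Subgroup.subset_closure (Or.inr rfl)
      obtain ⟨k, hk⟩ := hbA
      exact hbn ⟨k, Subtype.ext (by rw [SubgroupClass.coe_zpow]; exact hk)⟩
    have hidx : (Q : Subgroup K).index = 1 ∨ (Q : Subgroup K).index = q := by
      rw [hm]
      interval_cases m <;> simp
    refine ⟨?_, Or.inl hidx⟩
    have h1 := card_sylow_modEq_one p K
    have h2' := Q.card_dvd_index
    have hone : Nat.card (Sylow p K) = 1 := by
      rcases hidx with e | e
      · rw [e] at h2'; exact Nat.dvd_one.1 h2'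
      · rw [e] at h2'
        rcases (Nat.dvd_prime hqp).1 h2' with e' | e'
        · exact e'
        · exfalso
          rw [e', Nat.ModEq] at h1
          rcases hp with rfl | rfl <;> norm_num [hq] at h1
    haveI : Subsingleton (Sylow p K) := (Nat.card_eq_one_iff_unique.1 hone).1
    exact Q.normal_of_subsingleton

end CfsgLib.Char.Epp
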