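import Cfsg.Agent.Lib.Char.Epp.Frames
import Cfsg.Agent.Lib.Char.Epp.Eight
import Cfsg.Agent.Lib.Char.ThreeTI.Main
import Cfsg.Agent.Lib.Char.SelfCentThree.Main
import Cfsg.Agent.Lib.PGroup.MaxClassSeries
import Cfsg.Prelude.Def_Transfer

/-!
# Groups whose element orders are exactly one to five
-/

set_option autoImplicit false
set_option linter.unusedSectionVars false

namespace CfsgLib.Char.Epp

open CfsgLib.Coprime

universe u

/-- The transvection of order seven. -/
def seven : Matrix.SpecialLinearGroup (Fin 2) (ZMod 7) :=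
  ⟨!![1, 1; 0, 1], by decide⟩

/-- A witness that the transvection is not central. -/
def sevenT : Matrix.SpecialLinearGroup (Fin 2) (ZMod 7) :=
  ⟨!![1, 0; 1, 1], by decide⟩

theorem seven_pow : seven ^ 7 = 1 := by decide +kernel
theorem seven_noncentral : seven * sevenT ≠ sevenT * seven := by decide +kernel

theorem seven_dvd_card :
    7 ∣ Nat.card (Matrix.ProjectiveSpecialLinearGroup (Fin 2) (ZMod 7)) := by
  haveI : Fact (Nat.Prime 7) := ⟨by norm_num⟩
  let s : Matrix.ProjectiveSpecialLinearGroup (Fin 2) (ZMod 7) := QuotientGroup.mk' _ seven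
  have hs : s ≠ 1 := fun e => by
    have hm : seven ∈ Subgroup.center (Matrix.SpecialLinearGroup (Fin 2) (ZMod 7)) :=
      (QuotientGroup.eq_one_iff seven).1 e
    exact seven_noncentral (Subgroup.mem_center_iff.1 hm sevenT).symm
  exact (dvd_of_eq (orderOf_eq_prime (show s ^ 7 = 1 by rw [← map_pow, seven_pow, map_one]) hs).symm).trans
    (orderOf_dvd_natCard s)

variable {G : Type u} [Group G] [Finite G]

/-- A Sylow subgroup for three or five is not normal when both other primes occur. -/
theorem Small5.not_normal (h : Small5 G) {p : ℕ} [Fact p.Prime] (hp : p = 3 ∨ p = 5) (P : Sylow p G)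
    (hP : (P : Subgroup G) ≠ ⊥) (h2 : 2 ∣ Nat.card G) (hq : 8 - p ∣ Nat.card G) :
    ¬ (P : Subgroup G).Normal := by
  intro hn
  have hcard := card_normalizer_eq (P : Subgroup G)
  rw [Subgroup.normalizer_eq_top_iff.2 hn, Subgroup.card_top] at hcard
  set e := ((P : Subgroup G).subgroupOf (Subgroup.normalizer ((P : Subgroup G) : Set G))).index with he
  have hcases := h.sylow_cases hp P hP
  rw [← he] at hcases
  obtain ⟨j, hj⟩ := IsPGroup.iff_card.1 P.2
  have hee : ((P : Subgroup G).subgroupOf ⊤).index = e := by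
    rw [he, Subgroup.normalizer_eq_top_iff.2 hn]
  rw [hee, hj] at hcard
  have hdvd : ∀ r : ℕ, Nat.Coprime r p → r ∣ Nat.card G → r ∣ e := fun r hr hd =>
    (Nat.Coprime.pow_right j hr).dvd_of_dvd_mul_right (hcard ▸ hd)
  have d2 := hdvd 2 (by rcases hp with rfl | rfl <;> norm_num) h2
  have dq := hdvd (8 - p) (by rcases hp with rfl | rfl <;> norm_num) hq
  rcases hp with rfl | rfl <;> omega

/-- A Sylow three subgroup of order three: the quotient by a normal two-subgroup is alternating of degree five. -/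
theorem Small5.of_three (h : Small5 G) (P : Sylow 3 G) (hP3 : Nat.card (P : Subgroup G) = 3)
    (h2 : 2 ∣ Nat.card G) (h5 : 5 ∣ Nat.card G) :
    ∃ (N : Subgroup G) (_ : N.Normal), Cfsg.IsElementaryAbelian 2 N ∧
      Nonempty (G ⧸ N ≃* alternatingGroup (Fin 5)) := by
  haveI : Fact (Nat.Prime 3) := ⟨Nat.prime_three⟩
  haveI : Fact (Nat.Prime 5) := ⟨by norm_num⟩
  have hP1 : (P : Subgroup G) ≠ ⊥ := fun e => by rw [e, Subgroup.card_bot] at hP3; norm_num at hP3
  have hC : Subgroup.centralizer ((P : Subgroup G) : Set G) = (P : Subgroup G) := by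
    obtain ⟨x, hx, hx1⟩ := (Subgroup.bot_or_exists_ne_one _).resolve_left hP1
    refine le_antisymm ((Subgroup.centralizer_le (Set.singleton_subset_iff.2 hx)).trans
      (h.cent_le (Or.inl rfl) P hx hx1)) fun y hy => Subgroup.mem_centralizer_iff.2 fun z hz => ?_
    haveI := isCyclic_of_prime_card hP3
    exact congrArg Subtype.val (IsCyclic.commGroup.mul_comm (⟨z, hz⟩ : (P : Subgroup G)) ⟨y, hy⟩)
  rcases CfsgLib.Char.SelfCentThree.classify (P : Subgroup G) hP3 hC with
    ⟨N, hN, hnil, -, hq⟩ | ⟨N, hN, hcomm, hexp, hq⟩ | ⟨⟨e⟩⟩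
  · exfalso
    haveI := hN
    obtain ⟨R⟩ : Nonempty (Sylow 5 G) := inferInstance
    have hR1 : (R : Subgroup G) ≠ ⊥ := R.ne_bot_of_dvd_card h5
    have hidx : N.index = 3 ∨ N.index = 6 := by
      rw [Subgroup.index_eq_card]
      rcases hq with hq | ⟨⟨e⟩⟩
      · exact Or.inl hq
      · right
        rw [Nat.card_congr e.toEquiv, Nat.card_perm, Nat.card_fin]
        rfl
    have hRN : (R : Subgroup G) ≤ N := by
      intro r hr
      rw [← QuotientGroup.eq_one_iff, ← orderOf_eq_one_iff]
      refine Nat.eq_one_of_dvd_coprimes (show Nat.Coprime 5 6 by norm_num) ?_ ?_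
      · exact (orderOf_map_dvd (QuotientGroup.mk' N) r).trans
          (orderOf_dvd_of_pow_eq_one (h.pow_eq_one (Or.inr rfl) R.2 hr))
      · refine (orderOf_dvd_natCard _).trans ?_
        rw [← Subgroup.index_eq_card]
        rcases hidx with e | e <;> rw [e] <;> norm_num
    refine h.not_normal (Or.inr rfl) R hR1 h2 (P.2 |> fun _ => by
      show 3 ∣ Nat.card G
      rw [← hP3]; exact Subgroup.card_subgroup_dvd_card _) ⟨fun r hr g => ?_⟩
    haveI := hnil
    have hRn : ((R.subtype hRN : Sylow 5 N) : Subgroup N).Normal :=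
      Sylow.normal_of_normalizerCondition normalizerCondition_of_isNilpotent _
    haveI := Sylow.unique_of_normal (R.subtype hRN) hRn
    have hgR : (g • R : Sylow 5 G) ≤ N := by
      rw [Sylow.coe_subgroup_smul]
      rintro _ ⟨s, hs, rfl⟩
      exact hN.conj_mem s (hRN hs) g
    have e : (g • R : Sylow 5 G).subtype hgR = R.subtype hRN := Subsingleton.elim _ _
    have e' : g • R = R := Sylow.subtype_injective e
    have hm : g * r * g⁻¹ ∈ ((g • R : Sylow 5 G) : Subgroup G) := by
      rw [Sylow.coe_subgroup_smul]; exact ⟨r, hr, rfl⟩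
    rwa [e'] at hm
  · exact ⟨N, hN, ⟨hcomm, fun a ha => hexp a ha⟩, hq⟩
  · exfalso
    have h7 : 7 ∣ Nat.card G := by rw [Nat.card_congr e.toEquiv]; exact seven_dvd_card
    rcases h.prime_dvd (by norm_num) h7 with e | e | e <;> omega

/-- The structure theorem. -/
theorem structure_five (h : Small5 G) (h2 : 2 ∣ Nat.card G) (h3 : 3 ∣ Nat.card G) (h5 : 5 ∣ Nat.card G) :
    Nonempty (G ≃* alternatingGroup (Fin 6)) ∨
    ∃ (N : Subgroup G) (_ : N.Normal), Cfsg.IsElementaryAbelian 2 N ∧
      Nonempty (G ⧸ N ≃* alternatingGroup (Fin 5)) := by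
  classical
  haveI : Fact (Nat.Prime 3) := ⟨Nat.prime_three⟩
  haveI := Fintype.ofFinite G
  obtain ⟨P⟩ : Nonempty (Sylow 3 G) := inferInstance
  have hP1 : (P : Subgroup G) ≠ ⊥ := P.ne_bot_of_dvd_card h3
  obtain ⟨r, hr⟩ := IsPGroup.iff_card.1 P.2
  rcases Nat.lt_or_ge r 2 with hr2 | hr2
  · refine Or.inr (h.of_three P ?_ h2 h5)
    rcases (show r = 0 ∨ r = 1 by omega) with rfl | rfl
    · exact absurd (Subgroup.eq_bot_of_card_eq _ (by rw [hr, pow_zero])) hP1
    · rw [hr, pow_one]
  left
  have hnn := h.not_normal (Or.inl rfl) P hP1 h2 h5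
  have hcases := h.sylow_cases (Or.inl rfl) P hP1
  set V := (P : Subgroup G) with hV
  set e := (V.subgroupOf (Subgroup.normalizer (V : Set G))).index with he
  have hix : ThreeTI.ix V = e := rfl
  have hT : ThreeTI.T3 V :=
    ⟨fun a ha => h.pow_eq_one (Or.inl rfl) P.2 ha, fun x hx hx1 => h.cent_le (Or.inl rfl) P hx hx1,
      fun g x hx hx1 hgx => h.ti (Or.inl rfl) P hx hx1 hgx,
      fun y hy hy3 => mem_of_normalizer P hy (n := 1) (by rwa [pow_one])⟩
  have hco : ¬ 3 ∣ ThreeTI.ix V := by
    rw [hix]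
    rcases hcases with h1 | ⟨h1, -⟩ <;> omega
  haveI : Finite (V →* ℂˣ) := Finite.of_equiv _ (linearCharEquiv (G := V)).symm
  have hA : Nat.card (V →* ℂˣ) = (commutator V).index := by
    rw [Nat.card_congr (linearCharEquiv (G := V)), card_linear]
  have hA9 : 3 ^ 2 ≤ Nat.card (V →* ℂˣ) := by
    rw [hA]; exact CfsgLib.PGroup.two_le_index_commutator P.2 hr hr2
  obtain ⟨j, hj⟩ := P.2.index (commutator V)
  have hdvd := hT.ix_dvd hco
  rw [hix] at hdvd
  have fin : 5 * e < Nat.card (V →* ℂˣ) → e * (e + 2) < Nat.card (V →* ℂˣ) → False := fun a b =>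
    hnn (hT.normal hco (by rwa [hix]) (by rwa [hix]))
  have big : ∀ n : ℕ, n ≤ j → 3 ^ n ≤ Nat.card (V →* ℂˣ) := fun n hn => by
    rw [hA, hj]; exact Nat.pow_le_pow_right (by norm_num) hn
  have small : ∀ n : ℕ, j = n → Nat.card (V →* ℂˣ) = 3 ^ n := fun n hn => by rw [hA, hj, hn]
  rcases hcases with h1 | ⟨h1, hab⟩
  · exfalso
    rcases h1 with h1 | h1
    · exact fin (by omega) (by rw [h1]; omega)
    · norm_num at h1
      have hj4 : 4 ≤ j := by
        by_contra hc
        interval_cases j <;>
          (have hs := small _ rfl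
           rw [hs, h1] at hdvd
           rw [hs] at hA9
           revert hdvd hA9
           norm_num)
      have := big 4 hj4
      norm_num at this
      exact fin (by omega) (by rw [h1]; omega)
  · haveI : IsMulCommutative V := ⟨⟨fun a b => Subtype.ext (hab a a.2 b b.2)⟩⟩
    have hjr : j = r := by
      have hbot : commutator V = ⊥ := by
        rw [commutator_def, Subgroup.commutator_eq_bot_iff_le_centralizer]
        exact fun g _ => Subgroup.mem_centralizer_iff.2 fun y _ => Subtype.ext (hab y y.2 g g.2)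
      rw [hbot, Subgroup.index_bot, hr] at hj
      exact (Nat.pow_right_injective (by norm_num : 2 ≤ 3) hj).symm
    subst hjr
    rcases Nat.lt_or_ge j 3 with hj3 | hj3
    · -- order nine
      have h9 : Nat.card V = 9 := by rw [hr, show j = 2 by omega]; rfl
      rcases h1 with h1 | h1 | h1
      · exact absurd (h.normal_of_nine_two P h9 hab h1) hnn
      · exact (h.normal_or_six_of_nine_four P h9 hab h1).resolve_left hnn
      · exact (h.false_of_720 P h9 h1 (h.order_of_eight P h9 h1 h5)).elim
    · exfalso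
      have h27 := big 3 hj3
      norm_num at h27
      rcases h1 with h1 | h1 | h1
      · exact fin (by omega) (by rw [h1]; omega)
      · exact fin (by omega) (by rw [h1]; omega)
      · have hj4 : 4 ≤ j := by
          by_contra hc
          have := small 3 (by omega)
          rw [this, h1] at hdvd
          norm_num at hdvd
        have := big 4 hj4
        norm_num at this
        exact fin (by omega) (by rw [h1]; omega)

end CfsgLib.Char.Epp
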