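import Cfsg.Agent.Lib.Char.Epp.Complement
import Cfsg.Agent.Lib.Char.Epp.AffineFour

/-!
# The natural plane over four elements from fixed-point-free elements of order three
-/

set_option autoImplicit false
set_option linter.unusedSectionVars false

namespace CfsgLib.Char.Epp

open CfsgLib.Spor.Fi22.U6 CfsgLib.Char.Epp.Affine

universe u

/-- The double transposition moving zero to two. -/
def sigma : alternatingGroup (Fin 5) :=
  ⟨Equiv.swap 0 2 * Equiv.swap 1 3, Equiv.Perm.mem_alternatingGroup.2 (by decide +kernel)⟩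

theorem orbit_facts : sigma * sigma = 1 ∧ tau * sigma = sigma * tau ∧
    (tau * beta * (tau * beta) * sigma) ^ 3 = 1 ∧ tau * beta * (tau * beta) * sigma ≠ 1 ∧
    (tau * beta * (tau * beta) * sigma) * (tau * beta * (tau * beta) * sigma) =
      beta * tau * beta * (tau * sigma) ∧ tau ≠ 1 ∧ sigma ≠ 1 := by
  decide +kernel

/-- The elements attached to the scalars. -/
def phiF {A : Type*} [Monoid A] (v p : A) : Four → A
  | .o => 1
  | .e => v
  | .u => p
  | .w => v * p

theorem phiF_add {A : Type*} [CommGroup A] (v p : A) (hv : v * v = 1) (hp : p * p = 1) :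
    ∀ i j : Four, phiF v p (i + j) = phiF v p i * phiF v p j := by
  have hv' : ∀ z : A, v * (v * z) = z := fun z => by rw [← mul_assoc, hv, one_mul]
  have hp' : ∀ z : A, p * (p * z) = z := fun z => by rw [← mul_assoc, hp, one_mul]
  intro i j
  cases i <;> cases j <;> show phiF v p _ = _ <;>
    simp only [HAdd.hAdd, Add.add, Four.add, phiF, one_mul, mul_one, mul_assoc, mul_comm p v, mul_left_comm p v, hv, hp,
      hv', hp']

/-- An equivariant map from the plane. -/
theorem exists_plane {M : Type u} [CommGroup M] (cj : alternatingGroup (Fin 5) →* MulAut M)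
    (hsq : ∀ a : M, a * a = 1)
    (hfix : ∀ x : alternatingGroup (Fin 5), x ^ 3 = 1 → x ≠ 1 → ∀ w : M, w * cj x w * cj (x * x) w = 1)
    (v : M) (hvt : cj tau v = v) (hvs : cj sigma v = v) :
    ∃ Φ : Pl → M, (∀ x y, Φ (x + y) = Φ x * Φ y) ∧ Φ 0 = 1 ∧ (∀ x, Φ (fT x) = cj tau (Φ x)) ∧
      (∀ x, Φ (fB x) = cj beta (Φ x)) ∧ Φ (1, 0) = v := by
  obtain ⟨hb3, hb1, -, -, -, htt, -, -⟩ := five_facts
  obtain ⟨-, -, hX3, hX1, hXX, -, -⟩ := orbit_facts
  have hcomp : ∀ a b : alternatingGroup (Fin 5), ∀ w : M, cj (a * b) w = cj a (cj b w) := fun a b w => by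
    rw [map_mul]; rfl
  have hinv : ∀ a : M, a⁻¹ = a := fun a => inv_eq_of_mul_eq_one_right (hsq a)
  have cancel : ∀ a z : M, a * (a * z) = z := fun a z => by rw [← mul_assoc, hsq, one_mul]
  have ct : ∀ w : M, cj tau (cj tau w) = w := fun w => by rw [← hcomp, htt, map_one]; rfl
  have cb : ∀ w : M, cj beta (cj beta w) = w * cj beta w := fun w => by
    have e := eq_inv_of_mul_eq_one_right (hfix beta hb3 hb1 w)
    rw [hinv, hcomp] at e
    exact e
  set v1 := cj beta v with hv1def
  set p := cj tau v1 * v1 with hpdef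
  set p1 := cj beta p with hp1def
  have ctp : cj tau p = p := by rw [hpdef, map_mul, ct, mul_comm]
  have ctv1 : cj tau v1 = p * v1 := by rw [hpdef, mul_assoc, hsq, mul_one]
  -- the relation along the orbit
  have hZ : cj tau (cj beta (cj tau v1)) = v * cj beta (cj tau v1) := by
    have e := hfix _ hX3 hX1 v
    rw [hXX] at e
    simp only [hcomp, hvs, hvt, ← hv1def] at e
    rw [mul_assoc] at e
    have e' := (eq_inv_of_mul_eq_one_right e).trans (hinv v)
    calc cj tau (cj beta (cj tau v1)) =
        cj tau (cj beta (cj tau v1)) * cj beta (cj tau v1) * cj beta (cj tau v1) := by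
          rw [mul_assoc, hsq, mul_one]
      _ = v * cj beta (cj tau v1) := by rw [e']
  have ctp1 : cj tau p1 = v * p * p1 := by
    have eL : p1 = cj beta (cj tau v1) * (v * v1) := by rw [hp1def, hpdef, map_mul, hv1def, cb]
    have e1 : cj tau p1 = cj beta (cj tau v1) * cj tau v1 := by
      rw [eL, map_mul, map_mul, hZ, hvt, ← mul_assoc, mul_right_comm v _ v, hsq, one_mul]
    rw [e1, eL]
    generalize cj beta (cj tau v1) = Z
    rw [ctv1]
    calc Z * (p * v1) = v * (v * (Z * (p * v1))) := (cancel _ _).symm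
      _ = v * p * (Z * (v * v1)) := by ac_rfl
  have hφ := phiF_add v p (hsq v) (hsq p)
  have e1 : ∀ i : Four, cj tau (phiF v p i) = phiF v p i := by
    intro i
    cases i <;> simp only [phiF, map_one, map_mul, hvt, ctp]
  have e2 : ∀ y : Four, cj tau (cj beta (phiF v p y)) = phiF v p (Four.u * y) * cj beta (phiF v p y) := by
    intro y
    cases y
    · show cj tau (cj beta 1) = phiF v p Four.o * cj beta 1
      simp [phiF]
    · exact ctv1
    · show cj tau (cj beta (v * p)) = v * cj beta (v * p)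
      rw [map_mul, map_mul, ← hv1def, ← hp1def, ctv1, ctp1]
      calc p * v1 * (v * p * p1) = (p * p) * (v * (v1 * p1)) := by ac_rfl
        _ = v * (v1 * p1) := by rw [hsq, one_mul]
    · exact ctp1
  refine ⟨fun x => phiF v p x.1 * cj beta (phiF v p x.2), fun x y => ?_, ?_, fun x => ?_, fun x => ?_, ?_⟩
  · show phiF v p (x + y).1 * cj beta (phiF v p (x + y).2) = _
    rw [Prod.fst_add, Prod.snd_add, hφ, hφ, map_mul, mul_mul_mul_comm]
  · show phiF v p Four.o * cj beta (phiF v p Four.o) = 1
    simp [phiF]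
  · show phiF v p (x.1 + Four.u * x.2) * cj beta (phiF v p x.2) = _
    rw [map_mul, e1, e2, hφ, mul_assoc]
  · show phiF v p x.2 * cj beta (phiF v p (x.1 + x.2)) = _
    rw [map_mul, cb, hφ, map_mul]
    ac_rfl
  · show v * cj beta 1 = v
    rw [map_one, mul_one]

end CfsgLib.Char.Epp
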