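import Cfsg.Agent.Lib.Char.Epp.Local
import Mathlib.GroupTheory.GroupAction.Quotient

/-!
# Groups whose element orders are at most five: trivial intersection of Sylow subgroups
-/

set_option autoImplicit false
set_option linter.unusedSectionVars false

namespace CfsgLib.Char.Epp

open CfsgLib.Coprime

universe u

variable {G : Type u} [Group G] [Finite G] {p : ℕ} [hpf : Fact p.Prime]

theorem lt_inf_normalizer {P D : Subgroup G} (hP : IsPGroup p P) (h : D < P) :
    D < Subgroup.normalizer (D : Set G) ⊓ P := by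
  refine lt_of_le_of_ne (le_inf Subgroup.le_normalizer h.le) fun he => ?_
  haveI := hP.isNilpotent
  have hne : D.subgroupOf P < ⊤ := by
    rw [lt_top_iff_ne_top, Ne, Subgroup.subgroupOf_eq_top]
    exact h.not_ge
  obtain ⟨x, hx, hxD⟩ := SetLike.exists_of_lt ((normalizerCondition_of_isNilpotent (G := P)) _ hne)
  have hxN : (x : G) ∈ Subgroup.normalizer (D : Set G) := by
    rw [Subgroup.mem_normalizer_iff] at hx ⊢
    intro w
    constructor
    · intro hw
      exact (hx ⟨w, h.le hw⟩).mp hw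
    · intro hw
      have hw' : w ∈ P := by
        have := P.mul_mem (P.mul_mem (P.inv_mem x.2) (h.le hw)) x.2
        simpa [mul_assoc] using this
      exact (hx ⟨w, hw'⟩).mpr hw
  exact hxD (show (x : G) ∈ D from he ▸ ⟨hxN, x.2⟩)

/-- Distinct Sylow subgroups meet trivially. -/
theorem Small5.inf_eq_bot (h : Small5 G) (hp : p = 3 ∨ p = 5) (P R : Sylow p G) (hne : P ≠ R) :
    (P : Subgroup G) ⊓ R = ⊥ := by
  classical
  by_contra hbot
  haveI : Finite {x : Sylow p G × Sylow p G // x.1 ≠ x.2} := inferInstance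
  haveI : Nonempty {x : Sylow p G × Sylow p G // x.1 ≠ x.2} := ⟨⟨(P, R), hne⟩⟩
  obtain ⟨⟨⟨U, V⟩, hUV⟩, hmax⟩ := Finite.exists_max
    (fun x : {x : Sylow p G × Sylow p G // x.1 ≠ x.2} =>
      Nat.card ((x.1.1 : Subgroup G) ⊓ x.1.2 : Subgroup G))
  set D := (U : Subgroup G) ⊓ V with hD
  have hD1 : D ≠ ⊥ := by
    intro e
    have h1 := hmax ⟨(P, R), hne⟩
    simp only [← hD, e, Subgroup.card_bot] at h1
    exact hbot (Subgroup.eq_bot_of_card_le _ h1)
  have hDp : IsPGroup p D := U.2.to_le inf_le_left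
  set K := Subgroup.normalizer (D : Set G) with hK
  obtain ⟨T⟩ : Nonempty (Sylow p K) := inferInstance
  obtain ⟨hTn, -⟩ := h.local_normal hp hDp hD1 le_rfl T
  have hsub : ∀ X : Subgroup G, X ≤ K → IsPGroup p X → X ≤ (T : Subgroup K).map K.subtype := by
    intro X hXK hX x hx
    haveI := hTn
    have hX' : IsPGroup p (X.subgroupOf K) := hX.of_equiv (Subgroup.subgroupOfEquivOfLe hXK).symm
    have hT : (T : Subgroup K) ⊔ X.subgroupOf K = T := T.3 (T.2.to_sup_of_normal_left hX') le_sup_left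
    refine ⟨⟨x, hXK hx⟩, ?_, rfl⟩
    show (⟨x, hXK hx⟩ : K) ∈ (T : Subgroup K)
    rw [← hT]
    exact (le_sup_right : X.subgroupOf K ≤ _) (Subgroup.mem_subgroupOf.2 hx)
  obtain ⟨W, hW⟩ := (T.2.map K.subtype).exists_le_sylow
  have key : ∀ X : Sylow p G, D < X → W = X := by
    intro X hX
    by_contra hWX
    have h1 := hmax ⟨(W, X), hWX⟩
    have h2 : Subgroup.normalizer (D : Set G) ⊓ (X : Subgroup G) ≤ (W : Subgroup G) ⊓ X :=
      le_inf ((hsub _ inf_le_left (X.2.to_le inf_le_right)).trans hW) inf_le_right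
    have hlt := (lt_inf_normalizer X.2 hX).trans_le h2
    exact hlt.ne (Subgroup.eq_of_le_of_card_ge hlt.le h1)
  have hUD : D < U := lt_of_le_of_ne inf_le_left fun e =>
    hUV (Sylow.ext (U.3 V.2 (inf_eq_left.1 e)).symm)
  have hVD : D < V := lt_of_le_of_ne inf_le_right fun e =>
    hUV (Sylow.ext (V.3 U.2 (inf_eq_right.1 e)))
  exact hUV ((key U hUD).symm.trans (key V hVD))

/-- The centralizer of a non-trivial element of a Sylow subgroup lies in it. -/
theorem Small5.cent_le (h : Small5 G) (hp : p = 3 ∨ p = 5) (P : Sylow p G) {x : G}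
    (hx : x ∈ (P : Subgroup G)) (hx1 : x ≠ 1) : Subgroup.centralizer ({x} : Set G) ≤ (P : Subgroup G) := by
  obtain ⟨R, hR⟩ := (h.isPGroup_cent hp (h.orderOf_eq hp P.2 hx hx1)).exists_le_sylow
  by_contra hle
  have hne : P ≠ R := fun e => hle (e ▸ hR)
  have hm : x ∈ (P : Subgroup G) ⊓ (R : Subgroup G) := ⟨hx, hR (Subgroup.mem_centralizer_singleton_iff.2 rfl)⟩
  rw [h.inf_eq_bot hp P R hne, Subgroup.mem_bot] at hm
  exact hx1 hm

theorem Small5.ti (h : Small5 G) (hp : p = 3 ∨ p = 5) (P : Sylow p G) {g x : G}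
    (hx : x ∈ (P : Subgroup G)) (hx1 : x ≠ 1) (hgx : g * x * g⁻¹ ∈ (P : Subgroup G)) :
    g ∈ Subgroup.normalizer ((P : Subgroup G) : Set G) := by
  by_contra hg
  have hne : P ≠ g • P := fun e => hg (Sylow.smul_eq_iff_mem_normalizer.1 e.symm)
  have hm : g * x * g⁻¹ ∈ (P : Subgroup G) ⊓ ((g • P : Sylow p G) : Subgroup G) :=
    ⟨hgx, by rw [Sylow.coe_subgroup_smul]; exact ⟨x, hx, rfl⟩⟩
  rw [h.inf_eq_bot hp P _ hne, Subgroup.mem_bot] at hm
  exact hx1 (conj_eq_one_iff.1 hm)

theorem mem_of_normalizer (P : Sylow p G) {y : G} (hy : y ∈ Subgroup.normalizer ((P : Subgroup G) : Set G))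
    {n : ℕ} (hyp : y ^ (p ^ n) = 1) : y ∈ (P : Subgroup G) := by
  have hpg : IsPGroup p (Subgroup.zpowers y) := by
    obtain ⟨k, -, hk⟩ := (Nat.dvd_prime_pow hpf.out).1 (orderOf_dvd_of_pow_eq_one hyp)
    exact IsPGroup.of_card (n := k) (by rw [Nat.card_zpowers, hk])
  have hin : y ∈ Subgroup.zpowers y ⊓ Subgroup.normalizer (P : Set G) := ⟨Subgroup.mem_zpowers _, hy⟩
  rw [hpg.inf_normalizer_sylow P] at hin
  exact hin.2

/-- The index of the normalizer is congruent to one modulo the order. -/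
theorem Small5.index_mod (h : Small5 G) (hp : p = 3 ∨ p = 5) (P : Sylow p G) :
    (Subgroup.normalizer ((P : Subgroup G) : Set G)).index % Nat.card (P : Subgroup G) =
      1 % Nat.card (P : Subgroup G) := by
  classical
  set V := (P : Subgroup G) with hV
  set N := Subgroup.normalizer (V : Set G) with hN
  let Y := {q : G ⧸ N // q ≠ ((1 : G) : G ⧸ N)}
  have hfixS : ∀ (s : V), (s : G) • ((1 : G) : G ⧸ N) = ((1 : G) : G ⧸ N) := fun s => by
    rw [MulAction.Quotient.smul_mk, QuotientGroup.eq, smul_eq_mul, mul_one, mul_one]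
    exact N.inv_mem (Subgroup.le_normalizer s.2)
  letI : MulAction V Y :=
    { smul := fun s q => ⟨(s : G) • q.1, fun e => q.2 (smul_left_cancel (s : G) (e.trans (hfixS s).symm))⟩
      one_smul := fun q => Subtype.ext (one_smul G q.1)
      mul_smul := fun s s' q => Subtype.ext (mul_smul (s : G) s' q.1) }
  have hfree : ∀ q : Y, MulAction.stabilizer V q = ⊥ := by
    intro q
    rw [Subgroup.eq_bot_iff_forall]
    intro s hs
    obtain ⟨k, hk⟩ := QuotientGroup.mk_surjective q.1
    have e : (s : G) • q.1 = q.1 := congrArg Subtype.val hs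
    rw [← hk, MulAction.Quotient.smul_mk, QuotientGroup.eq, smul_eq_mul] at e
    by_contra hs1
    apply q.2
    rw [← hk, QuotientGroup.eq, mul_one]
    have hm : k⁻¹ * (s : G) * k ∈ N := by
      have := N.inv_mem e
      rwa [mul_inv_rev, inv_inv, ← mul_assoc] at this
    have hS : k⁻¹ * (s : G) * k ∈ V := mem_of_normalizer P hm (n := 1) (by
      rw [pow_one, show k⁻¹ * (s : G) * k = k⁻¹ * (s : G) * k⁻¹⁻¹ by group, conj_pow,
        h.pow_eq_one hp P.2 s.2]
      group)
    exact h.ti hp P s.2 (fun e1 => hs1 (Subtype.ext e1)) (g := k⁻¹) (by simpa using hS)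
  have hY := Nat.card_congr (MulAction.selfEquivOrbitsQuotientProd hfree)
  rw [Nat.card_prod] at hY
  haveI := Fintype.ofFinite (G ⧸ N)
  have hYc : Nat.card Y = N.index - 1 := by
    rw [Subgroup.index_eq_card, Nat.card_eq_fintype_card, Fintype.card_subtype_compl,
      Fintype.card_subtype_eq, Nat.card_eq_fintype_card]
  have h1 : 1 ≤ N.index := Nat.pos_of_ne_zero Subgroup.index_ne_zero_of_finite
  rw [hYc] at hY
  rw [show N.index = 1 + Nat.card V * Nat.card (Quotient (MulAction.orbitRel V Y)) by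
    rw [mul_comm, ← hY]; omega, Nat.add_mul_mod_self_left]

/-- The index of a Sylow subgroup in its normalizer, with commutativity when it is even. -/
theorem Small5.sylow_cases (h : Small5 G) (hp : p = 3 ∨ p = 5) (P : Sylow p G) (hP : (P : Subgroup G) ≠ ⊥) :
    (((P : Subgroup G).subgroupOf (Subgroup.normalizer ((P : Subgroup G) : Set G))).index = 1 ∨
      ((P : Subgroup G).subgroupOf (Subgroup.normalizer ((P : Subgroup G) : Set G))).index = 8 - p) ∨
    ((((P : Subgroup G).subgroupOf (Subgroup.normalizer ((P : Subgroup G) : Set G))).index = 2 ∨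
      ((P : Subgroup G).subgroupOf (Subgroup.normalizer ((P : Subgroup G) : Set G))).index = 4 ∨
      ((P : Subgroup G).subgroupOf (Subgroup.normalizer ((P : Subgroup G) : Set G))).index = 8) ∧
      ∀ a ∈ (P : Subgroup G), ∀ b ∈ (P : Subgroup G), a * b = b * a) := by
  have := (h.local_normal hp P.2 hP le_rfl (P.subtype Subgroup.le_normalizer)).2
  rwa [Sylow.coe_subtype] at this

/-- A commutative Sylow subgroup is the centralizer of each of its non-trivial elements. -/
theorem Small5.cent_eq (h : Small5 G) (hp : p = 3 ∨ p = 5) (P : Sylow p G)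
    (hab : ∀ a ∈ (P : Subgroup G), ∀ b ∈ (P : Subgroup G), a * b = b * a) {x : G}
    (hx : x ∈ (P : Subgroup G)) (hx1 : x ≠ 1) : Subgroup.centralizer ({x} : Set G) = (P : Subgroup G) :=
  le_antisymm (h.cent_le hp P hx hx1) fun y hy =>
    Subgroup.mem_centralizer_singleton_iff.2 (hab y hy x hx)

end CfsgLib.Char.Epp
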